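import Mathlib
import Cfsg.Agent.H17.Pron

/-! Definitions for the pronormality of odd-index subgroups in symplectic groups. -/

set_option autoImplicit false

open Cfsg Equiv

namespace Cfsg.Agent.H29.Pn

open Cfsg.Agent.H17

/-- The strong pronormality property at one Sylow `2`-subgroup `S`. -/
def PPat {G : Type*} [Group G] (S : Subgroup G) : Prop :=
  (∀ a ∈ Subgroup.normalizer (S : Set G), ∀ b ∈ Subgroup.normalizer (S : Set G), a * b * a⁻¹ * b⁻¹ ∈ S) ∧
    ∀ H : Subgroup G, S ≤ H → ∀ g ∈ Subgroup.normalizer (S : Set G), Odd (orderOf g) →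
      g ∈ H ⊔ cjs H g ∨ cjs H g = H

/-- The strong pronormality property. -/
def PP (G : Type*) [Group G] : Prop := ∀ S : Subgroup G, H18.SylIn 2 S ⊤ → PPat S

/-- The wreath product `U ≀ Sym(ι)`. -/
abbrev Wr (ι U : Type*) [Group U] := (ι → U) ⋊[mulAutArrow] Perm ι

/-- The base subgroup `∏ Q` of the wreath product. -/
def Bq (ι : Type*) {U : Type*} [Group U] (Q : Subgroup U) : Subgroup (Wr ι U) :=
  (Subgroup.pi Set.univ fun _ : ι => Q).map SemidirectProduct.inl

/-- `K` has an element with all entries in `N(Q)` on which the product character is nontrivial. -/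
def Good {ι U : Type*} [Fintype ι] [Group U] {Q : Subgroup U}
    (u : Subgroup.normalizer (Q : Set U) →* Multiplicative (ZMod 3)) (K : Subgroup (Wr ι U)) : Prop :=
  ∃ η ∈ K, ∃ h : ∀ i, η.left i ∈ Subgroup.normalizer (Q : Set U), ∏ i, u ⟨η.left i, h i⟩ ≠ 1

end Cfsg.Agent.H29.Pn
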