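import Cfsg.Agent.H10.Am0

/-! The group `3² : GL₂(3)`: finding the last generator. -/

set_option autoImplicit false
set_option linter.unusedVariables false
set_option linter.unusedSectionVars false

namespace Cfsg.Agent.H10.Am

open Subgroup

namespace amM

abbrev V := ZMod 3 × ZMod 3
def L (A : V × V) (x : V) : V := x.1.val • A.1 + x.2.val • A.2
def cp (A B : V × V) : V × V := (L A B.1, L A B.2)
def I0 : V × V := ((1, 0), (0, 1))
def gn : Fin 4 → V × V := ![((1, 2), (0, 1)), ((1, 0), (0, 2)), ((2, 0), (0, 2)), ((0, 2), (1, 0))]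
def ev (w : List (Fin 4)) : V × V := w.foldr (fun i A => cp (gn i) A) I0
def ind (A : V × V) : Prop := A.1.1 * A.2.2 ≠ A.1.2 * A.2.1
instance (A : V × V) : Decidable (ind A) := by unfold ind; infer_instance
def WL : List (List (Fin 4)) := [[], [0], [1], [2], [3], [0, 0], [1, 0], [2, 0], [3, 0], [0, 1], [2, 1], [3, 1], [3, 2], [0, 3], [1, 3], [2, 0, 0], [3, 0, 0], [2, 1, 0], [3, 1, 0], [3, 2, 0], [0, 3, 0], [1, 3, 0], [2, 0, 1], [3, 0, 1], [0, 3, 1], [0, 3, 2], [0, 0, 3], [1, 0, 3], [3, 0, 3], [0, 1, 3], [3, 2, 0, 0], [0, 3, 0, 0], [1, 3, 0, 0], [0, 3, 1, 0], [0, 3, 2, 0], [0, 0, 3, 0], [1, 0, 3, 0], [3, 0, 3, 0], [0, 1, 3, 0], [0, 3, 0, 1], [0, 0, 3, 1], [3, 0, 3, 2], [3, 1, 0, 3], [3, 0, 1, 3], [0, 3, 2, 0, 0], [1, 0, 3, 0, 0], [3, 0, 3, 0, 0], [3, 0, 1, 3, 0]]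
theorem ind_of : ∀ A B : V × V, cp A B = I0 → ind A := by decide +kernel
theorem gen : ∀ A : V × V, ind A → ∃ w ∈ WL, ev w = A := by decide +kernel
theorem c47 : (Finset.univ.filter fun A : V × V => ind A ∧ A ≠ gn 3).card = 47 := by decide +kernel

variable {X : Type*} [Group X] {a b z t s : X}

def φ (a z : X) (p : V) : X := a ^ p.1.val * z ^ p.2.val
def R (a z g : X) (A : V × V) : Prop := g * a * g⁻¹ = φ a z A.1 ∧ g * z * g⁻¹ = φ a z A.2

theorem φ_add (h : AC a b z t s) (p q : V) : φ a z (p + q) = φ a z p * φ a z q := by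
  have a3 : a ^ 3 = 1 := by rw [pow_three', h.a3]
  have z3 : z ^ 3 = 1 := by rw [pow_three', h.z3]
  have c : Commute a z := h.az
  simp only [φ, Prod.fst_add, Prod.snd_add, ZMod.val_add, ← pow_eq_pow_mod _ a3, ← pow_eq_pow_mod _ z3, pow_add]
  rw [mul_assoc, mul_assoc, ← mul_assoc (a ^ q.1.val), (c.pow_pow _ _).eq, mul_assoc]

theorem φ0 : φ a z 0 = 1 := by simp [φ]
theorem φ10 : φ a z (1, 0) = a := by simp [φ, ZMod.val_one]
theorem φ01 : φ a z (0, 1) = z := by simp [φ, ZMod.val_one]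
theorem φ20 (h : AC a b z t s) : φ a z (2, 0) = a⁻¹ :=
  eq_inv_of_mul_eq_one_left (by nth_rewrite 2 [← φ10 (a := a) (z := z)]; rw [← φ_add h]; exact φ0)
theorem φ02 (h : AC a b z t s) : φ a z (0, 2) = z⁻¹ :=
  eq_inv_of_mul_eq_one_left (by nth_rewrite 2 [← φ01 (a := a) (z := z)]; rw [← φ_add h]; exact φ0)

theorem φ_ns (h : AC a b z t s) (n : ℕ) (p : V) : φ a z (n • p) = φ a z p ^ n := by
  induction n with
  | zero => simp [φ0]
  | succ n ih => rw [succ_nsmul, φ_add h, ih, pow_succ]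

theorem R_ap (h : AC a b z t s) {g : X} {A : V × V} (r : R a z g A) (p : V) :
    g * φ a z p * g⁻¹ = φ a z (L A p) := by
  rw [L, φ_add h, φ_ns h, φ_ns h, ← r.1, ← r.2, conj_pow, conj_pow, conj_mul, φ]

theorem R_mul (h : AC a b z t s) {g k : X} {A B : V × V} (r : R a z g A) (r' : R a z k B) :
    R a z (g * k) (cp A B) := by
  constructor
  · show _ = φ a z (L A B.1)
    rw [← R_ap h r, ← r'.1]; group
  · show _ = φ a z (L A B.2)
    rw [← R_ap h r, ← r'.2]; group

theorem R1 : R a z 1 I0 := ⟨by simp [I0, φ10], by simp [I0, φ01]⟩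
theorem Rb (h : AC a b z t s) : R a z b (gn 0) := by
  refine ⟨?_, by show _ = φ a z (0, 1); rw [φ01, h.bz, mul_inv_cancel_right]⟩
  show _ = φ a z ((1, 0) + (0, 2))
  rw [φ_add h, φ10, φ02 h, (show Commute a z from h.az).inv_right.eq, ← h.ab]; group
theorem Rs (h : AC a b z t s) : R a z s (gn 1) :=
  ⟨by show _ = φ a z (1, 0); rw [φ10, h.sa, mul_inv_cancel_right], h.sz.trans (φ02 h).symm⟩
theorem Rt (h : AC a b z t s) : R a z t (gn 2) := ⟨h.ta.trans (φ20 h).symm, h.tz.trans (φ02 h).symm⟩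

theorem φ_inj (h : AC a b z t s) (hz : z ≠ 1) : Function.Injective (φ a z) := by
  have k0 : ∀ i : ZMod 3, φ a z (0, i) = 1 → i = 0 := fun i e => by
    have : i = 0 ∨ i = 1 ∨ i = 2 := (by decide : ∀ i : ZMod 3, i = 0 ∨ i = 1 ∨ i = 2) i
    rcases this with rfl | rfl | rfl
    exacts [rfl, (hz (φ01.symm.trans e)).elim, (hz (inv_eq_one.1 ((φ02 h).symm.trans e))).elim]
  have k : ∀ p, φ a z p = 1 → p = 0 := fun p e => by
    have e1 := R_ap h (Rb h) p
    have e2 := φ_add h (L (gn 0) p) (0, p.1)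
    rw [(by decide : ∀ p : V, L (gn 0) p + (0, p.1) = p) p, ← e1, e] at e2
    have e3 : p.1 = 0 := k0 _ (by simpa using e2.symm)
    obtain ⟨i, j⟩ := p
    obtain rfl : i = 0 := e3
    rw [k0 j e]; rfl
  intro p q e
  refine sub_eq_zero.1 (k _ ?_)
  have := φ_add h (p - q) q
  rw [sub_add_cancel, e] at this
  exact right_eq_mul.1 this

end amM

open amM in
theorem amM {X : Type*} [Group X] [Finite X] {a b z t s : X} (E : Subgroup X) [hN : E.Normal]
    (hX : Nat.card X = 432) (hE : Nat.card E = 9) (hc : centralizer (E : Set X) = E) (h : AC a b z t s)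
    (hz : z ≠ 1) (ha : a ∈ E) (hzE : z ∈ E) :
    ∃ m, m * m = t ∧ m * s * m⁻¹ = t * s ∧ m * a * m⁻¹ = z⁻¹ ∧ m * z * m⁻¹ = a ∧ (m * b) ^ 3 = 1 ∧
      closure {a, b, z, t, s, m} = ⊤ := by
  classical
  have inj := φ_inj h hz
  have φE : ∀ p, φ a z p ∈ E := fun p => mul_mem (pow_mem ha _) (pow_mem hzE _)
  have sj : ∀ e ∈ E, ∃ p, φ a z p = e := fun e he => by
    have bij : Function.Bijective (fun p : V => (⟨φ a z p, φE p⟩ : E)) :=
      (Nat.bijective_iff_injective_and_card _).2 ⟨fun c d e => inj (congrArg Subtype.val e), by simp [hE]⟩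
    obtain ⟨c, e⟩ := bij.2 ⟨e, he⟩
    exact ⟨c, congrArg Subtype.val e⟩
  have un : ∀ {g k : X} {A : V × V}, R a z g A → R a z k A → ∃ p, k = g * φ a z p := fun {g k A} r r' => by
    obtain ⟨p, e⟩ := sj (g⁻¹ * k) (hc ▸ fun x hx => by
      obtain ⟨q, rfl⟩ := sj x hx
      have := (R_ap h r q).trans (R_ap h r' q).symm
      calc φ a z q * (g⁻¹ * k) = g⁻¹ * (g * φ a z q * g⁻¹) * k := by group
        _ = _ := by rw [this]; group)
    exact ⟨p, by rw [e, mul_inv_cancel_left]⟩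
  have ex0 : ∀ g, ∃ A, R a z g A := fun g => by
    obtain ⟨p, e⟩ := sj _ (hN.conj_mem a ha g)
    obtain ⟨q, e'⟩ := sj _ (hN.conj_mem z hzE g)
    exact ⟨(p, q), e.symm, e'.symm⟩
  have ex : ∀ g A, R a z g A → ind A := fun g A r => by
    obtain ⟨B, r'⟩ := ex0 g⁻¹
    have r2 := R_mul h r r'
    rw [mul_inv_cancel] at r2
    exact ind_of A B (Prod.ext (inj (r2.1.symm.trans R1.1)) (inj (r2.2.symm.trans R1.2)))
  obtain ⟨m0, r0⟩ : ∃ m0, R a z m0 (gn 3) := by
    by_contra hn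
    push Not at hn
    choose f hf using ex0
    have := Fintype.ofFinite X
    have c := Finset.card_le_mul_card_image_of_maps_to (s := (Finset.univ : Finset X)) (f := f)
      (t := Finset.univ.filter fun A : V × V => ind A ∧ A ≠ gn 3)
      (fun g _ => by simpa using ⟨ex g _ (hf g), fun e => hn g (e ▸ hf g)⟩) 9 fun A _ => by
        rcases (Finset.univ.filter fun g => f g = A).eq_empty_or_nonempty with e | ⟨g, hg⟩
        · rw [e]; simp
        · refine le_trans (Finset.card_le_card (t := Finset.univ.image fun p : V => g * φ a z p) fun k hk => ?_)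
            (Finset.card_image_le.trans (by simp))
          simp only [Finset.mem_filter, Finset.mem_univ, true_and] at hg hk
          obtain ⟨p, e⟩ := un (hg ▸ hf g) (hk ▸ hf k : R a z k A)
          exact Finset.mem_image.2 ⟨p, Finset.mem_univ _, e.symm⟩
    rw [c47, Finset.card_univ, ← Nat.card_eq_fintype_card, hX] at c
    omega
  have ti : t⁻¹ = t := inv_eq_of_mul_eq_one_right h.tt
  have Rφ : ∀ p, R a z (φ a z p) I0 := fun p =>
    ⟨by rw [hc.ge (φE p) a ha |>.symm, mul_inv_cancel_right]; exact φ10.symm,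
      by rw [hc.ge (φE p) z hzE |>.symm, mul_inv_cancel_right]; exact φ01.symm⟩
  obtain ⟨m, r, mt⟩ : ∃ m, R a z m (gn 3) ∧ Commute m t := by
    have r1 : R a z (t * m0 * t) (gn 3) := by
      have := R_mul h (R_mul h (Rt h) r0) (Rt h)
      rwa [show cp (cp (gn 2) (gn 3)) (gn 2) = gn 3 by decide] at this
    obtain ⟨p, e⟩ := un r0 r1
    refine ⟨m0 * φ a z (-p), by
      have := R_mul h r0 (Rφ (-p))
      rwa [show cp (gn 3) I0 = gn 3 by decide] at this, ?_⟩
    have e2 : t * (m0 * φ a z (-p)) * t⁻¹ = m0 * φ a z (-p) := by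
      rw [← conj_mul, R_ap h (Rt h), ti, e, mul_assoc, ← φ_add h,
        (by decide : ∀ p : V, p + L (gn 2) (-p) = -p) p]
    exact (mul_inv_eq_iff_eq_mul.1 e2).symm
  have cen : ∀ {g k : X} {A B : V × V}, Commute g t → Commute k t → R a z g A → R a z k B → A = B → g = k :=
    fun {g k A B} cg ck r r' e0 => by
    subst e0
    obtain ⟨p, e⟩ := un r r'
    have c : Commute (φ a z p) t := by
      have := cg.inv_left.mul_left ck
      rwa [e, inv_mul_cancel_left] at this
    have e2 := R_ap h (Rt h) p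
    rw [← c.eq, mul_inv_cancel_right] at e2
    have e3 : p = 0 := (by decide : ∀ p : V, p = L (gn 2) p → p = 0) p (inj e2)
    rw [e, e3, φ0, mul_one]
  have st : Commute s t := h.ts.symm
  have bt : Commute b t := h.tb.symm
  refine ⟨m, cen (mt.mul_left mt) (Commute.refl t) (R_mul h r r) (Rt h) (by decide),
    mul_inv_eq_iff_eq_mul.2 (cen (mt.mul_left st) (((Commute.refl t).mul_left st).mul_left mt) (R_mul h r (Rs h))
      (R_mul h (R_mul h (Rt h) (Rs h)) r) (by decide)), r.1.trans (φ02 h), r.2.trans φ10, ?_, ?_⟩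
  · rw [pow_three']
    have rb := R_mul h r (Rb h)
    have cb := mt.mul_left bt
    exact cen ((cb.mul_left cb).mul_left cb) (Commute.one_left t) (R_mul h (R_mul h rb rb) rb) R1 (by decide)
  · refine eq_top_iff.2 fun g _ => ?_
    have wd : ∀ w, ∃ k ∈ closure {a, b, z, t, s, m}, R a z k (ev w) := fun w => by
      induction w with
      | nil => exact ⟨1, one_mem _, R1⟩
      | cons i w ih =>
        obtain ⟨k, hk, rk⟩ := ih
        obtain ⟨x, hx, rx⟩ : ∃ x ∈ closure {a, b, z, t, s, m}, R a z x (gn i) := by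
          fin_cases i
          exacts [⟨b, subset_closure (by simp), Rb h⟩, ⟨s, subset_closure (by simp), Rs h⟩,
            ⟨t, subset_closure (by simp), Rt h⟩, ⟨m, subset_closure (by simp), r⟩]
        exact ⟨x * k, mul_mem hx hk, R_mul h rx rk⟩
    obtain ⟨A, rA⟩ := ex0 g
    obtain ⟨w, -, rfl⟩ := gen A (ex g A rA)
    obtain ⟨k, hk, rk⟩ := wd w
    obtain ⟨p, rfl⟩ := un rk rA
    exact mul_mem hk (mul_mem (pow_mem (subset_closure (by simp)) _) (pow_mem (subset_closure (by simp)) _))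

end Cfsg.Agent.H10.Am
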