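import Mathlib
import Cfsg.Agent.S5737
import Cfsg.Agent.S1174
import Cfsg.Agent.S0222
import Cfsg.Agent.H10.PSL2Max3
import Cfsg.Agent.H29.Cl4
import Cfsg.Agent.H29.Ten
import Cfsg.Agent.H7.BT3
import Cfsg.Agent.S0280

/-!
Binary actions: TI stabilisers, strongly embedded subgroups.
-/

set_option autoImplicit false
namespace Cfsg.Agent.H29.Bn
open MulAction Subgroup Cfsg.Agent.H29 Cfsg.Agent.L0 Cfsg.Agent.S5737 Cfsg.Agent.H10
open scoped Pointwise

section

variable {G Ω : Type*} [Group G] [MulAction G Ω]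

theorem bin_of_TI [IsPretransitive G Ω] (H : ∀ (a b : G) (x y z : Ω), a ≠ 1 → b ≠ 1 → a • x = x → b • y = y →
    (a⁻¹ * b) • z = z → ∀ g : G, g • x = x → g • y = y) : Bin G Ω := fun n I J hn h => by
  have h' : ∀ i j, ∃ g : G, g • I i = J i ∧ g • I j = J j := fun i j => by
    rcases eq_or_ne i j with rfl | e
    · obtain ⟨k, hk⟩ := exists_smul_eq G (I i) (J i)
      exact ⟨k, hk, hk⟩
    · exact h i j e
  have h2 : ∀ {g g' : G} {x y : Ω}, g • x = y → g' • x = y → (g⁻¹ * g') • x = x := fun e e' => by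
    rw [mul_smul, e', ← e, inv_smul_smul]
  by_cases h4 : ∀ i j, ∀ g : G, g • I i = I i → g • I j = I j
  · obtain ⟨g, h5, -⟩ := h' ⟨0, by omega⟩ ⟨0, by omega⟩
    refine ⟨g, fun l => ?_⟩
    obtain ⟨a, h7, h8⟩ := h' ⟨0, by omega⟩ l
    have := h4 _ l _ (h2 h5 h7)
    rw [mul_smul, h8, inv_smul_eq_iff] at this
    exact this.symm
  push Not at h4
  obtain ⟨i, j, c, h3, h4⟩ := h4
  obtain ⟨g, h5, h6⟩ := h' i j
  refine ⟨g, fun l => ?_⟩
  obtain ⟨a, h7, h8⟩ := h' i l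
  obtain ⟨b, h9, h10⟩ := h' j l
  by_cases e : g⁻¹ * a = 1
  · rwa [inv_mul_eq_one.1 e]
  by_cases e' : g⁻¹ * b = 1
  · rwa [inv_mul_eq_one.1 e']
  exact absurd (H _ _ _ _ _ e e' (h2 h5 h7) (h2 h6 h9) (by simpa [mul_assoc] using h2 h8 h10) c h3) h4

theorem fx {g k : G} {x : Ω} : g • k • x = k • x ↔ (k⁻¹ * g * k) • x = x := by
  rw [mul_smul, mul_smul, inv_smul_eq_iff]

theorem embedded [Finite G] [Finite Ω] [IsSimpleGroup G] [IsPretransitive G Ω] (B : Bin G Ω)
    (hc : ∀ {s t : G}, orderOf s = 2 → orderOf t = 2 → IsConj s t) {x : Ω} (hx : stabilizer G x ≠ ⊤) {s : G}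
    (hs : orderOf s = 2) (h : s • x = x) : ∃ H : Subgroup G, IsStronglyEmbedded H := by
  haveI := Fact.mk Nat.prime_two
  have h1 : ∀ {a b : G}, orderOf a = 2 → orderOf b = 2 → a * b = b * a → fixedBy Ω a ⊆ fixedBy Ω b := fun {a b} ha hb e y hy => by
    by_cases h : a * b = 1
    · rwa [← inv_eq_of_mul_eq_one_right h, fixedBy_inv]
    · exact B.fix hc hb ha (orderOf_eq_prime (by
        rw [Commute.mul_pow e, ← ha, pow_orderOf_eq_one, ha, ← hb, pow_orderOf_eq_one, mul_one]) h) e hy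
  obtain ⟨P, hP⟩ := (IsPGroup.of_card (p := 2) (n := 1) ((Nat.card_zpowers s).trans hs)).exists_le_sylow
  obtain ⟨z, hz, h2⟩ := H7.exists_central_invol P (hs ▸ orderOf_dvd_natCard s)
  have h3 : ∀ t ∈ (P : Subgroup G), orderOf t = 2 → fixedBy Ω t = fixedBy Ω z := fun t ht e =>
    (h1 e hz (mem_centralizer_singleton_iff.1 (h2 ht))).antisymm (h1 hz e (mem_centralizer_singleton_iff.1 (h2 ht)).symm)
  refine S1174.result P P (fun e => ?_) ⟨le_rfl, fun _ _ _ h => h⟩ (ne_top_of_le_ne_top (b := stabilizer G (fixedBy Ω s))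
    (fun e => ?_) (iSup_le fun t c hc => ?_))
  · simp [mem_bot.1 (e.le (hP (mem_zpowers s)))] at hs
  · rcases (inferInstance : (stabilizer G x).normalCore.Normal).eq_bot_or_eq_top with e' | e'
    · have : s ∈ (stabilizer G x).normalCore := fun g => by
        have h4 : g⁻¹ • fixedBy Ω s = _ := e.ge (mem_top g⁻¹)
        simpa using fx.1 (h4.subset (Set.smul_mem_smul_set h))
      simp [mem_bot.1 (e'.le this)] at hs
    · exact hx (top_le_iff.1 (e'.ge.trans (normalCore_le _)))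
  · rw [mem_stabilizer_iff, h3 s (hP (mem_zpowers s)) hs, ← h3 t t.2.1 t.2.2, smul_fixedBy,
      mem_centralizer_singleton_iff.1 hc, mul_inv_cancel_right]

end

section

variable {F : Type*} [Field F] [Fintype F]

theorem inv_conj {s t : P2 F} (hs : orderOf s = 2) (ht : orderOf t = 2) : IsConj s t := by
  obtain ⟨p, hp, _⟩ := exists_charP F
  haveI := Fact.mk hp
  rcases eq_or_ne p 2 with rfl | h
  · have h2 : (2 : F) = 0 := CharP.cast_eq_zero F 2
    have key : ∀ s : P2 F, orderOf s = 2 → IsConj (pj (uu 1)) s := fun s hs => by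
      obtain ⟨g, rfl⟩ := pj_surjective s
      have h3 := s2_cayley g
      rw [orderOf_injective _ (pj_injective h2)] at hs
      rw [inv_eq_of_mul_eq_one_right (show g * g = 1 from (sq g).symm.trans (orderOf_dvd_iff_pow_eq_one.1 hs.dvd))] at h3
      have h4 := congrFun₂ h3 0 0
      obtain ⟨x, rfl⟩ := exists_cj_of_isConj (g := uu 1) (h := g) (isConj_of_trace_det (by simp [tG_val, IsScal])
        (fun e => by simp [pj_injective h2 ((pj_eq_one_iff'.2 e).trans pj.map_one.symm)] at hs)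
        (by simp [tG_val, Matrix.trace_fin_two] at h4 ⊢; grind) (by rw [tG_val, tG_val, g.2, (uu 1).2]))
      obtain ⟨z, hz⟩ := FiniteField.isSquare_of_char_two (ringChar.eq F 2) (detU x : F)
      exact pj.map_isConj (isConj_cj_of_sq (z := Units.mk0 z (by rintro rfl; exact Units.ne_zero _ (hz.trans (mul_zero _)))) (Units.ext hz) _)
    exact (key s hs).symm.trans (key t ht)
  · obtain ⟨_, hg, e⟩ := involution_conj h (pslPi_mem s) (pslPi_mem t) (by rwa [orderOf_injective _ pslPi_injective])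
      (by rwa [orderOf_injective _ pslPi_injective])
    obtain ⟨g, rfl⟩ := exists_pslPi_eq hg
    exact isConj_iff.2 ⟨g, pslPi_injective (by simpa using e)⟩

theorem two_pow_mem (h : Odd (Fintype.card F)) {k : ℕ} (e : 2 ^ (k + 1) ∣ Nat.card (P2 F)) : 2 ^ k ∈ spec (P2 F) := by
  obtain ⟨a, ha⟩ := h
  have h1 := card_PSL2 (F := F)
  obtain ⟨x, hx⟩ := exists_orderOf_ds (F := F)
  obtain ⟨y, hy⟩ := exists_orderOf_elS (F := F)
  have h2 := orderOf_pj_eq_div (g := ds x) (by rw [hx])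
  have h3 := orderOf_pj_eq_div (g := elS F y) (by rw [hy]; omega)
  rw [Nat.card_eq_fintype_card] at h1
  rw [hx] at h2
  rw [hy] at h3
  rw [ha, Nat.add_sub_cancel, Nat.gcd_mul_right_right] at h1 h2 h3
  rw [show Nat.card (P2 F) = (2 * a + 1) * (a * (a + 1)) * 2 by nlinarith, pow_succ,
    Nat.mul_dvd_mul_iff_right two_pos] at e
  replace e := (Nat.Coprime.pow_left k (Odd.coprime_two_left ⟨a, rfl⟩)).dvd_of_dvd_mul_left e
  rcases Nat.even_or_odd a with h | h
  · exact mem_spec_of_dvd ⟨_, h2⟩ (by simpa using (Nat.Coprime.pow_left k h.add_one.coprime_two_left).dvd_of_dvd_mul_right e)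
  · exact mem_spec_of_dvd ⟨_, h3⟩ (by
      rw [show (2 * a + 1 + 1) / 2 = a + 1 by omega]
      exact (Nat.Coprime.pow_left k h.coprime_two_left).dvd_of_dvd_mul_left e)

theorem no_embedded (h : Odd (Fintype.card F)) (h4 : 4 ≤ Fintype.card F) (h5 : Fintype.card F ≠ 5)
    {H : Subgroup (P2 F)} : ¬ IsStronglyEmbedded H := fun hH => by
  haveI := isSimpleGroup_PSL_fin (F := F) (n := 2) le_rfl fun _ => by rwa [Nat.card_eq_fintype_card]
  have h1 := card_PSL2 (F := F)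
  rcases S0222.result (by
    by_contra! e
    exact not_isSolvable_PSL2 (F := F) (by rwa [Nat.card_eq_fintype_card]) (Group.isSolvable_of_comm e)) H hH with
    ⟨K, _, _, _, h2, ⟨e⟩⟩ | ⟨-, m, -, e⟩ | ⟨K, _, _, q, h2, h3, h6, ⟨e⟩⟩
  · haveI := Fact.mk Nat.prime_two
    obtain ⟨n, -, hn⟩ := FiniteField.card K 2
    have h3 := card_PSL2 (F := K)
    have h6 : Fintype.card K % 2 = 0 := by rw [hn]; simp
    rw [Nat.card_eq_fintype_card, ← Nat.card_congr e.toEquiv, Nat.coprime_iff_gcd_eq_one.1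
      (Odd.coprime_two_left ⟨Fintype.card K / 2 - 1, by omega⟩), one_mul] at h3
    by_cases h7 : (n : ℕ) ≤ 2
    · have := hn ▸ Nat.pow_le_pow_right two_pos h7
      obtain ⟨a, ha⟩ := h
      rw [h3, show Fintype.card K = 4 by omega, Nat.card_eq_fintype_card, ha, Nat.add_sub_cancel,
        Nat.gcd_mul_right_right] at h1
      have : 3 ≤ a := by omega
      have := Nat.mul_le_mul (Nat.mul_le_mul (by omega : 7 ≤ 2 * a + 1) (by omega : 6 ≤ 2 * a)) (by omega : 8 ≤ 2 * a + 1 + 1)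
      omega
    obtain ⟨x, hx⟩ := spec_congr e ▸ two_pow_mem h (k := 2) (h3 ▸ (((pow_dvd_pow 2 (by omega)).trans hn.symm.dvd).mul_right _).mul_right _)
    rcases orderOf_p2_dvd 2 x with h8 | h8 | h8 <;> rw [hx] at h8
    · omega
    all_goals
      rw [Nat.coprime_iff_gcd_eq_one.1 (Odd.coprime_two_left ⟨Fintype.card K / 2 - 1, by omega⟩)] at h8
      omega
  · have h3 : 3 ∣ Nat.card (P2 F) := (Nat.Coprime.dvd_mul_left ((by norm_num : Nat.Coprime 3 2).coprime_dvd_right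
      (Nat.gcd_dvd_left _ _))).1 (Dvd.dvd.trans (by
        generalize Nat.card F = q
        obtain ⟨t, rfl | rfl | rfl⟩ : ∃ t, q = 3 * t ∨ q = 3 * t + 1 ∨ q = 3 * t + 2 := ⟨q / 3, by omega⟩
        exacts [((dvd_mul_right _ _).mul_right _).mul_right _, ((dvd_mul_right 3 t).mul_left _).mul_right _,
          Dvd.dvd.mul_left ⟨t + 1, rfl⟩ _]) h1.symm.dvd)
    obtain ⟨t, ht⟩ : ∃ t, 2 ^ (2 * m + 1) = 3 * t + 2 :=
      ⟨2 ^ (2 * m + 1) / 3, by have : 2 ^ (2 * m + 1) % 3 = 2 := by simp [pow_succ, pow_mul, Nat.mul_mod, Nat.pow_mod]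
                               omega⟩
    rw [e, ht, show 3 * t + 2 - 1 = 3 * t + 1 from rfl, Nat.dvd_iff_mod_eq_zero] at h3
    simp [Nat.mul_mod, Nat.add_mod, pow_two] at h3
  · obtain ⟨p, _, n, hp, hn⟩ := FiniteField.card' K
    obtain rfl : 2 = p := (Nat.prime_dvd_prime_iff_eq Nat.prime_two hp).1 (Nat.prime_two.dvd_of_dvd_pow
      (hn ▸ h2 ▸ h3.two_dvd.trans (dvd_pow_self q two_ne_zero)))
    haveI := Fact.mk hp
    obtain ⟨j, -, rfl⟩ := (Nat.dvd_prime_pow hp).1 (hn ▸ h2 ▸ dvd_pow_self q two_ne_zero)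
    obtain ⟨j, rfl⟩ : ∃ i, j = i + 2 := ⟨j - 2, by
      have := (Nat.pow_le_pow_iff_right one_lt_two).1 (show 2 ^ 2 ≤ _ from h6); omega⟩
    have h7 := S0280.result h2 3 (by omega)
    have h8 : Odd (2 ^ (j + 2) + 1) := h3.add_one
    have h9 := spec_congr e ▸ two_pow_mem h (k := 3) (Dvd.dvd.trans (
      (Nat.Coprime.pow_left _ h8.coprime_two_left).dvd_of_dvd_mul_left ((Nat.Coprime.pow_left _
      (h8.of_dvd_nat (Nat.gcd_dvd_right _ _)).coprime_two_left).dvd_of_dvd_mul_left ((Dvd.dvd.mul_right (by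
        rw [← pow_mul]; exact pow_dvd_pow 2 (by omega)) _).trans h7.symm.dvd))) (Nat.card_congr e.toEquiv).symm.dvd)
    rw [spec_psu3 (p := 2) h2, pow_add 2 j] at h9
    rw [pow_add] at h6
    generalize 2 ^ j = a at h9 h6
    obtain ⟨b, hb⟩ : ∃ b, a ^ 2 % 3 = (a % 3) ^ 2 % 3 ∧ a ≤ a ^ 2 ∧ (a * 2 ^ 2) ^ 2 = 16 * a ^ 2 :=
      ⟨0, Nat.pow_mod .., Nat.le_self_pow two_ne_zero _, by ring⟩
    rcases (Nat.dvd_prime Nat.prime_three).1 (Nat.gcd_dvd_left 3 (a * 2 ^ 2 + 1)) with h1 | h1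
    · simp only [h1, Set.mem_setOf] at h9; omega
    · have := Nat.gcd_eq_left_iff_dvd.1 h1
      rw [show a % 3 = 2 by omega] at hb
      simp only [h1, Set.mem_setOf] at h9; omega

end

end Cfsg.Agent.H29.Bn
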