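import Mathlib
import Cfsg.Agent.H29.Cl8
import Cfsg.Agent.H11.OrthOrder

/-! Element orders of `O₈⁻(q)` and `V ⋊ Ω₈⁻(q)` in characteristic two. -/

set_option autoImplicit false

namespace Cfsg.Agent.H29

open H11 Module Polynomial
open Matrix hiding zpow_mul zpow_add zpow_sub_one zpow_one_add zpow_neg_one inv_zpow one_zpow

universe u

variable {F : Type u} [Field F]

theorem dvd_card_of_period {S : Type*} [Finite S] (σ : Equiv.Perm S) {N : ℕ} (h : ∀ x j, (σ ^ j) x = x → N ∣ j) :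
    N ∣ Nat.card S := by
  classical
  haveI := Fintype.ofFinite S
  rw [Nat.card_congr (MulAction.selfEquivSigmaOrbits (Subgroup.zpowers σ) S), Nat.card_sigma]
  refine Finset.dvd_sum fun ω _ => ?_
  rw [Nat.card_eq_fintype_card, ← MulAction.minimalPeriod_eq_card]
  exact h ω.out _ ((congrFun (Equiv.Perm.iterate_eq_pow σ _) _).symm.trans Function.iterate_minimalPeriod)

theorem Ev.exists_root {V : Type*} [AddCommGroup V] [Module F V] {T : V →ₗ[F] V} {χ : F[X]} {E : Multiset (Lc F)ˣ}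
    (h : Ev χ E) (h0 : aeval T χ = 0) {x : V} (hx : x ≠ 0) {j : ℕ} (e : (T ^ j) x = x) : ∃ α ∈ E, α ^ j = 1 := by
  by_contra! H
  obtain ⟨a, b, h1⟩ := (isCoprime_iff_aeval_ne_zero_of_isAlgClosed F (Lc F) χ (X ^ j - 1)).2 fun a =>
      or_iff_not_imp_left.2 fun e1 e2 => by
    rw [not_not, ← eval_map_algebraMap, h, eval_pol, Multiset.prod_eq_zero_iff, Multiset.mem_map] at e1
    obtain ⟨α, hα, e1⟩ := e1
    exact H α hα (Units.ext (by simpa [sub_eq_zero, sub_eq_zero.1 e1] using e2))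
  have := congrArg (aeval T · x) h1
  exact hx (by simpa [h0, e] using this.symm)

theorem exists_sp [Fintype F] {m : ℕ} (hm : m ≠ 0) {E : Multiset (Lc F)ˣ} (h : AdmS (Fintype.card F) m E) :
    ∃ M : symplecticGroup (Fin m) F, Ev M.1.charpoly E ∧ ∀ φ, aeval M.1 φ = 0 → M.1.charpoly ∣ φ := by
  obtain ⟨χ, hχ⟩ := exists_ev_of_frob h.frob
  obtain ⟨k, rfl⟩ := Nat.exists_eq_succ_of_ne_zero hm
  have hd : χ.natDegree = 2 * k + 2 := hχ.natDegree.trans h.card
  have hs := hχ.sd (by rintro rfl; simpa using h.card) (σ := RingHom.id F) (f := RingHom.id _) (fun _ => rfl)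
    (fun _ => rfl) (by simpa using h.inv)
  have h1 := root_mul_yy hs.c0
  have h2 : ∀ a b, hs.form (AdjoinRoot.root χ ^ k) b a = -hs.form (AdjoinRoot.root χ ^ k) a b := fun a b => by
    simpa using hs.form_symm (ε := -1) (by
      rw [hχ.coeff_zero_eq h.prod, h.card, pow_mul, neg_one_sq, one_pow, map_pow, hs.tau_root, hd, mul_assoc,
        ← pow_succ', show 2 * k + 2 - 1 = k + (k + 1) by omega, pow_add, mul_assoc, ← mul_pow, h1]; simp) a b
  have h3 : LinearMap.IsAlt (hs.form (AdjoinRoot.root χ ^ k)) := fun a => by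
    induction a using adj_ind hs.monic with
    | h0 => simp
    | h1 a b ha hb => simp [ha, hb, h2 a b]
    | h2 c j hj =>
      rw [map_smul, map_smulₛₗ, LinearMap.smul_apply, hs.form_apply, map_pow, hs.tau_root, mul_assoc, ← mul_pow,
        mul_comm (yy χ), h1, one_pow, mul_one, lc_pow _ _ (by omega), if_neg (by omega)]; simp
  haveI := L0.finite_adjoinRoot hs.monic.ne_zero
  obtain ⟨e, he⟩ := H10.exists_isometry_std (l := Fin (k + 1)) (B := hs.form (AdjoinRoot.root χ ^ k))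
    (h3.isRefl.nondegenerate_iff_separatingLeft.2 (hs.form_sep ((IsUnit.of_mul_eq_one _ h1).pow k))) h3
    (by rw [L0.finrank_adjoinRoot hs.monic.ne_zero, hd]; simp [mul_add])
  obtain ⟨M, rfl, h4, h5⟩ := exists_mat hχ.monic e.symm
  refine ⟨⟨M, H10.mem_symplecticGroup_iff_form.2 fun u v => ?_⟩, hχ, h4⟩
  rw [← e.symm_apply_apply u, ← e.symm_apply_apply v, h5, h5, ← he, ← he]
  simp [hs.form_root]

/-- a quadratic space of dimension `2n` and Witt index `ν` has an isometry (`A` false), or an affine transformation with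
linear part of Dickson invariant zero (`A` true), of order divisible by `N`. -/
def Rl (F : Type u) [Field F] (A : Prop) (n ν : ℕ) (N : ℤ) : Prop :=
  ∃ (V : Type u) (_ : AddCommGroup V) (_ : Module F V) (_ : FiniteDimensional F V) (B : V →ₗ[F] V →ₗ[F] F) (Q : V → F),
    IsQuad B Q ∧ B.SeparatingLeft ∧ finrank F V = 2 * n ∧ WittIdx B Q ν ∧ ∃ (g : Isom B Q) (v : V),
      (A → dick g.1 = 0) ∧ (¬ A → v = 0) ∧ ∀ m : ℕ, (fun x => g.1 x + v)^[m] = id → N ∣ m

theorem Rl.prod {A : Prop} {n n' ν : ℕ} {N₁ N₂ N : ℤ} (h : Rl F A n n N₁) (h' : Rl F A n' ν N₂)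
    (hN : ∀ m, N₁ ∣ m → N₂ ∣ m → N ∣ m) : Rl F A (n + n') (n + ν) N := by
  obtain ⟨V, _, _, _, B, Q, h1, h2, h3, ⟨U, h4, rfl⟩, g, v, h5, h6, h7⟩ := h
  obtain ⟨V', _, _, _, B', Q', k1, k2, k3, ⟨U', k4, rfl⟩, g', v', k5, k6, k7⟩ := h'
  have hs := isOrthSum_prod B Q B' Q'
  have h8 : IsQuad _ _ := hs.isForm h1 k1
  refine ⟨V × V', inferInstance, inferInstance, inferInstance, _, _, h8, hs.sep h2 k2, by simp [h3, k3, mul_add],
    ⟨U.prod U', ⟨h8.totSing_iff.2 fun x hx => by simp [h4.1.1 _ hx.1, k4.1.1 _ hx.2], fun x hx e => ?_⟩,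
      by rw [← finrank_prod, ← LinearMap.finrank_range_of_inj (f := U.subtype.prodMap U'.subtype)
          (U.injective_subtype.prodMap U'.injective_subtype), LinearMap.range_prodMap, U.range_subtype, U'.range_subtype]⟩,
    orthSumHom hs (g, g'), (v, v'), fun e => by rw [dick_orthSumHom, h5 e, k5 e, add_zero],
    fun e => by rw [h6 e, k6 e]; rfl, fun m e => ?_⟩
  · have : x.1 ∈ U := h1.perp_eq_self h2 h4.1 h3 ▸ fun u hu => by simpa [prodB_apply] using e (u, 0) ⟨hu, zero_mem _⟩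
    exact ⟨this, k4.2 _ (by simpa [h4.1.1 _ this] using hx) fun u hu => by
      simpa [prodB_apply] using e (0, u) ⟨zero_mem _, hu⟩⟩
  rw [show (fun x => (orthSumHom hs (g, g')).1 x + (v, v')) = Prod.map (fun x => g.1 x + v) fun x => g'.1 x + v' from rfl,
    Prod.map_iterate] at e
  exact hN m (h7 m (funext fun x => congrArg Prod.fst (congrFun e (x, 0))))
    (k7 m (funext fun x => congrArg Prod.snd (congrFun e (0, x))))

theorem Rl.mono {A : Prop} {n ν : ℕ} {N N' : ℤ} (h : Rl F A n ν N) (hN : ∀ m, N ∣ m → N' ∣ m) : Rl F A n ν N' := by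
  obtain ⟨V, _, _, _, B, Q, h1, h2, h3, h4, g, v, h5, h6, h7⟩ := h
  exact ⟨V, _, _, ‹_›, B, Q, h1, h2, h3, h4, g, v, h5, h6, fun m e => hN m (h7 m e)⟩

theorem two_pow_dvd {V : Type*} {f : V → V} {x : V} {k : ℕ} (h1 : f^[2 ^ k] x ≠ x) (h2 : f^[2 ^ (k + 1)] x = x) (m : ℕ)
    (e : f^[m] = id) : (2 : ℤ) ^ (k + 1) ∣ m := by
  exact_mod_cast Function.minimalPeriod_eq_prime_pow h1 h2 ▸ Function.IsPeriodicPt.minimalPeriod_dvd (congrFun e x)

variable [Fintype F] [CharP F 2]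

theorem exists_unip {V : Type*} [AddCommGroup V] [Module F V] [FiniteDimensional F V] {B : V →ₗ[F] V →ₗ[F] F} {Q : V → F}
    (h : IsQuad B Q) (hB : B.SeparatingLeft) {k : ℕ} (hk : k ≤ 2) (hn : finrank F V = 2 * (k + 1)) (A : Prop) :
    ∃ (g : Isom B Q) (v : V), (A → dick g.1 = 0) ∧ (¬ A → v = 0) ∧
      ∀ m : ℕ, (fun x => g.1 x + v)^[m] = id → (2 : ℤ) ^ (k + 1) ∣ m := by
  have h2 : (2 : F) = 0 := CharTwo.two_eq_zero
  obtain ⟨e, f, hs⟩ : ∃ e f : Fin k → V, HypSys B Q e f := by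
    rcases h.wittIdx_even_cases hB hn with hν | hν <;> obtain ⟨e, f, hs, -⟩ := h.exists_witt_decomp hB hν
    exacts [⟨e ∘ Fin.succ, f ∘ Fin.succ, fun _ => hs.Qe _, fun _ => hs.Qf _, fun _ _ => hs.ee _ _, fun _ _ => hs.ff _ _,
      fun _ _ => by simp [hs.ef]⟩, ⟨e, f, hs⟩]
  have h3 := h.nondegOn_perp hB (hs.nondegOn h)
  obtain ⟨v, hv, h4⟩ := h.exists_nonsingular h3 fun e0 => by
    have := hs.finrank_perp h hB
    rw [e0] at this
    simp [hn, mul_add] at this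
  obtain ⟨w, hw, h5⟩ : ∃ w ∈ perp B (Submodule.span F (Set.range (Sum.elim e f))), B v w = 1 := by
    obtain ⟨w, hw, h5⟩ : ∃ w ∈ perp B (Submodule.span F (Set.range (Sum.elim e f))), B v w ≠ 0 := by
      by_contra! H; exact h4 (h3 v hv H ▸ h.map_zero)
    exact ⟨(B v w)⁻¹ • w, Submodule.smul_mem _ _ hw, by simp [h5]⟩
  rw [HypSys.mem_perp_iff] at hv hw
  have v0 : v ≠ 0 := fun e => h4 (e ▸ h.map_zero)
  have e0 : ∀ i, e i ≠ 0 := (hs.linearIndependent_e h).ne_zero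
  have h6 : ∀ x y : V, (1 : F) • x = (1 : F) • y → x = y := by simp
  have h7 := hs.fe h
  have h8 : (∀ i, B v (e i) = 0) ∧ ∀ i, B v (f i) = 0 := by simp [h.comm v, hv]
  have h9 : (∀ i, B w (e i) = 0) ∧ (∀ i, B w (f i) = 0) ∧ B w v = 1 := by simp [h.comm w, hw, h5]
  have h10 : ∀ x, B x x = 0 := by simp [h.diag', h2]
  by_cases hA : A <;> interval_cases k
  · exact ⟨1, v, fun _ => dick_one, absurd hA, two_pow_dvd (x := 0) (by simpa) (by simp; apply h6; match_scalars; grind)⟩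
  · refine ⟨h.eich (hs.Qe 0) (hv.1 0), f 0, fun _ => ?_, absurd hA, two_pow_dvd (x := 0) (fun e => ?_) ?_⟩
    · rw [h.eich_eq_reflO_mul _ _ h4, h.dick_mul hB, h.dick_reflO hB h4, h.dick_reflO hB (by
        simpa [h.sub', h.smul', hs.Qe, h8])]
      rfl
    · simpa [h.eich_apply, hs.ee, hs.ff, hs.ef, h7, hv, hw, h5, h8, h9, h10] using congrArg (B w) e
    · simp [h.eich_apply, hs.ee, hs.ff, hs.ef, h7, hv, h8, h10]
      apply h6; match_scalars <;> grind
  · refine ⟨h.eich (hs.Qe 0) (w := f 1) (by simp [hs.ef]) * h.eich (hs.Qe 1) (hv.1 1), f 0, fun _ =>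
      have hex := h.nonExc_of_finrank hB (by omega)
      h.dick_eq_zero_of_mem_commutator hB (mul_mem (h.eich_mem_commutator hB hex _ _) (h.eich_mem_commutator hB hex _ _)),
      absurd hA, ?_⟩
    generalize hT : (_ * _ : Isom B Q) = T
    obtain ⟨a0, a1, a2, a3, a4⟩ : T.1 (e 0) = e 0 ∧ T.1 (e 1) = e 1 + e 0 ∧ T.1 v = v ∧
        T.1 (f 1) = f 1 + v + Q v • (e 1 + e 0) ∧ T.1 (f 0) = f 0 + f 1 := by
      simp [← hT, h.eich_apply, hs.Qf, hs.ee, hs.ff, hs.ef, h7, hv, h8, h10]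
      constructor <;> apply h6 <;> match_scalars <;> grind
    have : (fun x => T.1 x + f 0)^[2 ^ 2] 0 = Q v • e 0 := by
      simp [a0, a1, a2, a3, a4]
      apply h6; match_scalars <;> grind
    refine two_pow_dvd (x := 0) (by rw [this]; simp [h4, e0]) ?_
    rw [show 2 ^ (2 + 1) = 2 ^ 2 + 2 ^ 2 from rfl, Function.iterate_add_apply, this]
    simp [a0, a1, a2, a3, a4]
    apply h6; match_scalars <;> grind
  · refine ⟨h.reflO v, 0, (absurd · hA), fun _ => rfl, two_pow_dvd (x := w) (by simp [h.reflO_apply, h5, h4, v0]) ?_⟩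
    simp [h.reflO_apply, h5, h10]
    apply h6; match_scalars <;> grind
  · refine ⟨h.eich (hs.Qe 0) (hw.1 0) * h.reflO v, 0, (absurd · hA), fun _ => rfl, two_pow_dvd (x := f 0) (fun e => ?_) ?_⟩
    · simpa [h.eich_apply, h.reflO_apply, hs.ee, hs.ff, hs.ef, h7, hv, hw, h5, h8, h9, h10, h4] using congrArg (B w) e
    · simp [h.eich_apply, h.reflO_apply, hs.ee, hs.ff, hs.ef, h7, hv, hw, h5, h8, h9, h10]
      apply h6; match_scalars <;> grind
  · refine ⟨h.eich (hs.Qe 0) (w := f 1) (by simp [hs.ef]) * h.eich (hs.Qe 1) (hw.1 1) * h.reflO v, 0, (absurd · hA),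
      fun _ => rfl, ?_⟩
    generalize hT : (_ * _ : Isom B Q) = T
    obtain ⟨a0, a1, a2, a3, a4, a5⟩ : T.1 (e 0) = e 0 ∧ T.1 (e 1) = e 1 + e 0 ∧ T.1 v = v + e 1 + e 0 ∧
        T.1 w = w + (Q v)⁻¹ • (v + e 1 + e 0) ∧ T.1 (f 1) = f 1 + w + Q w • (e 1 + e 0) ∧ T.1 (f 0) = f 0 + f 1 := by
      simp [← hT, h.eich_apply, h.reflO_apply, hs.Qf, hs.ee, hs.ff, hs.ef, h7, hv, hw, h5, h8, h9, h10]
      refine ⟨?_, ?_, ?_⟩ <;> apply h6 <;> match_scalars <;> grind
    have : (fun x => T.1 x + 0)^[2 ^ 2] (f 0) = f 0 + (Q v)⁻¹ • e 1 := by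
      simp [a0, a1, a2, a3, a4, a5]
      apply h6; match_scalars <;> grind
    refine two_pow_dvd (x := f 0) (by rw [this]; simp [h4, e0]) ?_
    rw [show 2 ^ (2 + 1) = 2 ^ 2 + 2 ^ 2 from rfl, Function.iterate_add_apply, this]
    simp [a0, a1, a2, a3, a4, a5]
    apply h6; match_scalars <;> grind

theorem pow_eq_one_of_two_pow {α : (Lc F)ˣ} {a j : ℕ} (h : α ^ (2 ^ a * j) = 1) : α ^ j = 1 :=
  Units.ext (iterateFrobenius_inj (Lc F) 2 a (by
    rw [iterateFrobenius_def, ← Units.val_pow_eq_pow_val, ← pow_mul', h]; simp))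

theorem rl_ss (A : Prop) {n : ℕ} {E : Multiset (Lc F)ˣ} (hE : AdmS (Fintype.card F) (n + 1) E) {N : ℤ}
    (hN : ∀ m : ℕ, (∀ α ∈ E, α ^ m = 1) → N ∣ m) : ∃ ε : ℤ, (ε = 1 ∧ Rl F A (n + 1) (n + 1) N ∨ ε = -1 ∧ Rl F A (n + 1) n N) ∧
      ∀ M : ℤ, (∀ α ∈ E, ∀ j : ℕ, α ^ j = 1 → M ∣ j) →
        M ∣ ((Fintype.card F : ℤ) ^ (n + 1) - ε) * (Fintype.card F ^ n + ε) := by
  obtain ⟨M, h1, h3⟩ := exists_sp n.succ_ne_zero hE
  obtain ⟨a, u, hu, h4⟩ := Nat.exists_eq_two_pow_mul_odd (orderOf_pos M).ne'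
  have h5 : (M.1 ^ 2 ^ a) ^ u = 1 := by rw [← pow_mul, ← h4]; exact congrArg Subtype.val (pow_orderOf_eq_one M)
  have h6 : ∀ (X : symplecticGroup (Fin (n + 1)) F) u v, bPlus _ F (X.1 *ᵥ u) (X.1 *ᵥ v) = bPlus _ F u v := fun X u v => by
    have : ∀ u v, bPlus (n + 1) F u v = H10.spBilin _ F u v := fun u v => by
      simp [bPlus_apply, H10.spBilin_apply, J, fromBlocks_mulVec, dotProduct, Finset.sum_add_distrib, neg_mulVec,
        CharTwo.neg_eq]
    rw [this, this, H10.mem_symplecticGroup_iff_form.1 X.2]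
  have hB := bPlus_sep (n + 1) F
  have h : IsQuad (bPlus (n + 1) F) fun x => ∑ i ∈ Finset.range u, quadFormPlus _ F ((M.1 ^ 2 ^ a) ^ i *ᵥ x) :=
    IsQuad.of_add_smul (fun x y => by
      have := fun i => h6 ((M ^ 2 ^ a) ^ i) x y
      simp only [SubmonoidClass.coe_pow] at this
      simp [mulVec_add, (isQuad_plus _ F).add', Finset.sum_add_distrib, this, CharTwo.natCast_eq_ite,
        Nat.not_even_iff_odd.2 hu])
      fun c x => by simp [mulVec_smul, (isQuad_plus _ F).smul', Finset.mul_sum]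
  obtain ⟨g, hg⟩ := exists_isom_of_matrix h hB (M.1 ^ 2 ^ a) fun v => by
    have := (Finset.sum_range_succ' (fun i => quadFormPlus _ F ((M.1 ^ 2 ^ a) ^ i *ᵥ v)) u).symm.trans
      (Finset.sum_range_succ _ u)
    simpa [h5, pow_succ] using this
  have h7 : ∀ j v, g.1^[j] v = M.1 ^ (2 ^ a * j) *ᵥ v := fun j => by
    induction j with
    | zero => simp
    | succ j ih => simp [ih, hg, mul_add, pow_add]
  have h8 : ∀ ν, WittIdx (bPlus (n + 1) F) (fun x => ∑ i ∈ Finset.range u, quadFormPlus _ F ((M.1 ^ 2 ^ a) ^ i *ᵥ x)) ν →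
      Rl F A (n + 1) ν N := fun ν hν => by
    refine ⟨_, _, _, inferInstance, _, _, h, hB, finrank_plus _, hν, g, 0, fun _ => ?_, fun _ => rfl, fun m e => hN m fun α hα =>
      pow_eq_one_of_two_pow (a := a) (((h1.dvd_iff 2 (c := 1)).1 (h3 _ ?_)).1 α hα |>.trans (map_one _))⟩
    · have := map_pow (h.dickHom hB) g u
      rw [show g ^ u = 1 by ext v; simp [LinearEquiv.pow_apply, h7, pow_mul, h5], map_one] at this
      obtain ⟨k, rfl⟩ := hu
      rwa [pow_succ, pow_mul, (by decide : ∀ x : Multiplicative (ZMod 2), x ^ 2 = 1), one_pow, one_mul, eq_comm] at this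
    · simp only [add_zero] at e
      simpa [sub_eq_zero] using Matrix.ext_iff_mulVec.2 fun v => (h7 m v).symm.trans ((congrFun e v).trans (one_mulVec v).symm)
  have h9 : ∀ K : ℤ, (∀ α ∈ E, ∀ j : ℕ, α ^ j = 1 → K ∣ j) →
      K ∣ Nat.card {v // ∑ i ∈ Finset.range u, quadFormPlus _ F ((M.1 ^ 2 ^ a) ^ i *ᵥ v) = 0} - 1 := fun K hK => by
    rw [← h.card_nonzero_singular, Nat.cast_add, Nat.cast_one, add_sub_cancel_right, ← Int.natAbs_dvd, Int.natCast_dvd_natCast]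
    refine dvd_card_of_period (Equiv.Perm.subtypePerm g.1.toEquiv fun x => by simp [← hg, show _ = _ from g.2.2 x]) fun x j e => ?_
    obtain ⟨α, hα, e⟩ := h1.exists_root (T := toLin' M.1) (by rw [L0.aeval_toLin', aeval_self_charpoly, map_zero]) x.2.2
      (j := 2 ^ a * j) (by
        rw [Equiv.Perm.subtypePerm_pow] at e
        rw [← toLin'_pow]
        exact (h7 j x).symm.trans ((congrFun (Equiv.Perm.iterate_eq_pow g.1.toEquiv j) _).trans (congrArg Subtype.val e)))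
    exact Int.natCast_dvd_natCast.1 (Int.natAbs_dvd.2 (hK α hα j (pow_eq_one_of_two_pow e)))
  rcases h.wittIdx_even_cases hB (finrank_plus _) with hν | hν
  · refine ⟨1, .inl ⟨rfl, h8 _ hν⟩, fun K hK => ?_⟩
    have := h.card_singular_plus _ hB hν (finrank_plus _)
    rw [Nat.card_eq_fintype_card (α := F)] at this
    convert h9 K hK using 1
    exact mul_left_cancel₀ (Nat.cast_ne_zero.2 (Fintype.card_ne_zero (α := F))) (by linear_combination -this)
  · refine ⟨-1, .inr ⟨rfl, h8 _ hν⟩, fun K hK => ?_⟩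
    have := h.card_singular_minus _ hB hν (finrank_plus _)
    rw [Nat.card_eq_fintype_card (α := F)] at this
    convert h9 K hK using 1
    linear_combination -this

theorem rl_blk (A : Prop) {d : ℕ} {ε : ℤ} (hε : ε = 1 ∧ d ≠ 0 ∨ ε = -1) :
    Rl F A (d + 1) (if ε = 1 then d + 1 else d) (Fintype.card F ^ (d + 1) - ε) := by
  have hQ := pq_card F 2
  have hx : 0 < d + 1 ∧ (ε = 1 ∨ ε = -1) := ⟨d.succ_pos, by tauto⟩
  obtain ⟨s, hs⟩ := exists_gens (L := Lc F) hQ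
  obtain ⟨δ, h1, h3⟩ := rl_ss A (n := d) (E := sorb _ (s (d + 1, ε)) (d + 1)) ((sy_sorb hx.2 ((hs (d + 1, ε) hx _).2 dvd_rfl)).admS
    (by simp) (by simp)) (N := Fintype.card F ^ (d + 1) - ε) fun m e => (hs (d + 1, ε) hx m).1 (by
      simpa using e _ (self_mem_sorb _ hx.1))
  replace h3 := h3 _ fun α hα j e => (hs (d + 1, ε) hx j).1 (by
    obtain ⟨i, -, e'⟩ := mem_sorb.1 hα
    replace e : (s (d + 1, ε) ^ (j : ℤ)) ^ (Fintype.card F : ℤ) ^ i = 1 := by
      rw [zpow_comm, zpow_natCast]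
      rcases e' with rfl | rfl
      exacts [e, by simpa using e]
    clear e'
    induction i with
    | zero => simpa using e
    | succ i ih => exact ih (hQ.inj _ _ (by rwa [← zpow_mul, ← pow_succ, one_zpow])))
  obtain ⟨c, hc⟩ : (2 : ℤ) ∣ Fintype.card F ^ (d + 1) := hQ.dvd.pow d.succ_ne_zero
  have h4 : (1 : ℤ) < Fintype.card F := by exact_mod_cast Fintype.one_lt_card
  have h5 := pow_lt_pow_right₀ h4 d.lt_add_one
  dsimp only at h3
  rcases h1 with ⟨rfl, h1⟩ | ⟨rfl, h1⟩ <;> rcases hε with ⟨rfl, h0⟩ | rfl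
  · exact h1
  · have := Int.le_of_dvd (by positivity) (IsCoprime.dvd_of_dvd_mul_left ⟨1 - c, c, by rw [hc]; ring⟩ h3)
    omega
  · have := Int.le_of_dvd (by linarith [one_lt_pow₀ h4 h0]) (IsCoprime.dvd_of_dvd_mul_left ⟨c, 1 - c, by rw [hc]; ring⟩ h3)
    omega
  · exact h1

omit [CharP F 2] in
theorem rl_one (A : Prop) : Rl F A 1 1 (Fintype.card F - 1) := by
  classical
  obtain ⟨t, ht⟩ := IsCyclic.exists_ofOrder_eq_natCard (α := Fˣ)
  have h := isQuad_plus 1 F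
  have hs := hypSys_plus 1 F
  refine ⟨_, _, _, inferInstance, _, _, h, bPlus_sep 1 F, finrank_plus 1, wittIdx_plus 1 F, h.dil _ _ t, 0,
    fun _ => h.dick_dil (bPlus_sep 1 F) (hs.Qe 0) (hs.Qf 0) (hs.ef 0 0) t.ne_zero, fun _ => rfl, fun m e => ?_⟩
  have : ∀ m : ℕ, (fun x => (h.dil (Pi.single (.inl 0) 1) (Pi.single (.inr 0) 1) t).1 x + 0)^[m] (Pi.single (.inl 0) 1) =
      (t : F) ^ m • Pi.single (.inl 0) 1 := fun m => by
    induction m with
    | zero => simp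
    | succ m ih =>
      rw [Function.iterate_succ_apply', ih, map_smul, h.dil_apply (hs.Qe 0) (hs.Qf 0) (hs.ef 0 0) t.ne_zero, hs.ee, hs.fe h]
      simp only [if_true]
      match_scalars <;> ring
  have h1 : t ^ m = 1 := Units.ext (by simpa using congrFun ((this m).symm.trans (congrFun e _)) (.inl 0))
  rw [← orderOf_dvd_iff_pow_eq_one, ht, Nat.card_eq_fintype_card, Fintype.card_units] at h1
  rwa [← Nat.cast_pred Fintype.card_pos, Int.natCast_dvd_natCast]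

variable {a b : F} (hab : ∀ z₁ z₂ : F, z₁ ^ 2 + a * z₁ * z₂ + b * z₂ ^ 2 = 0 → z₁ = 0 ∧ z₂ = 0)
include hab

theorem rl_four (A : Prop) {N : ℕ} (hN : N ∈ SPE 2 (AdmS (L := Lc F) (Fintype.card F) 4)) : Rl F A 4 3 N := by
  have hQ := pq_card F 2
  obtain ⟨l, k, h1, h3⟩ := (mem_sps hQ).1 hN
  rcases k with _ | k
  · rcases four_types h1 (by simpa using h3) with h3 | ⟨⟨x, y⟩, hxy, h3⟩
    · exact (rl_blk A (d := 3) (.inr rfl)).mono fun m e => h3 m (by simp) (by simpa using e.mul_left 2)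
    simp only [List.mem_cons, Prod.mk.injEq, List.not_mem_nil, or_false] at hxy
    rcases hxy with ⟨rfl, rfl⟩ | ⟨rfl, rfl⟩ | ⟨rfl, rfl⟩
    · exact (rl_blk A (d := 1) (.inl ⟨rfl, by simp⟩)).prod (rl_blk A (d := 1) (.inr rfl)) fun m e e' =>
        h3 m (by simp) (by simpa using ⟨e, e'⟩)
    · exact (rl_blk A (d := 2) (.inl ⟨rfl, by simp⟩)).prod (rl_blk A (d := 0) (.inr rfl)) fun m e e' =>
        h3 m (by simp) (by simpa using ⟨e, by simpa using e'⟩)
    · exact (rl_one A).prod (rl_blk A (d := 2) (.inr rfl)) fun m e e' => h3 m (by simp) (by simpa using ⟨e, e'⟩)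
  obtain ⟨s, hs⟩ := exists_gens (L := Lc F) hQ
  obtain ⟨i, j, h4, h5, h6⟩ : ∃ i j, i + j = 2 ∧ j ≤ k ∧ Nat.clog 2 (2 * (k + 1)) = j + 1 := by
    have := h1.2
    have : k ≤ 3 := by omega
    interval_cases k
    exacts [⟨2, 0, by decide⟩, ⟨1, 1, by decide⟩, ⟨0, 2, by decide⟩, ⟨0, 2, by decide⟩]
  obtain ⟨h7, h8⟩ := blk_spec (h1.mono (n' := i + 1) (k' := k - j) (by omega)) fun x hx => (hs x (h1.1 x hx) _).2 dvd_rfl
  have h9 : ∀ m : ℤ, (l.toFinset.lcm fun x => (Fintype.card F : ℤ) ^ x.1 - x.2) ∣ m → 2 ^ (j + 1) ∣ m → (N : ℤ) ∣ m :=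
    fun m e e' => h3 m (h6 ▸ e') fun x hx => (Finset.lcm_dvd_iff.1 e x (List.mem_toFinset.2 hx)).mul_left _
  obtain ⟨ε, ⟨-, h⟩ | ⟨-, h⟩, -⟩ := rl_ss A h7 (N := l.toFinset.lcm fun x => (Fintype.card F : ℤ) ^ x.1 - x.2)
    fun m e => Finset.lcm_dvd fun x hx => have hx := List.mem_toFinset.1 hx
      (hs x (h1.1 x hx) _).1 (by simpa using e _ (Multiset.mem_add.2 (.inl (h8 x hx).1)))
  · have := h.prod (n' := j + 1) (ν := j) ⟨_, _, _, inferInstance, _, _, isQuad_minus j F a b, bMinus_sep j hab,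
      finrank_minus j, wittIdx_minus j hab, exists_unip (isQuad_minus j F a b) (bMinus_sep j hab) (by omega)
        (finrank_minus j) A⟩ h9
    convert this using 1 <;> omega
  · have := Rl.prod (n := j + 1) ⟨_, _, _, inferInstance, _, _, isQuad_plus _ F, bPlus_sep _ F, finrank_plus _,
      wittIdx_plus _ F, exists_unip (isQuad_plus _ F) (bPlus_sep _ F) (by omega) (finrank_plus _) A⟩ h fun m e e' => h9 m e' e
    convert this using 1 <;> omega

theorem Rl.out {A : Prop} {N : ℤ} (h : Rl F A 4 3 N) : ∃ (g : isometryGroup F (quadFormMinus 3 F a b)) (v : _),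
    (A → g ∈ Omega F _) ∧ (¬ A → v = 0) ∧ ∀ m : ℕ, (fun x => toLin' g.1.1 x + v)^[m] = id → N ∣ m := by
  obtain ⟨V, _, _, _, B, Q, h1, h2, h3, h4, g, v, h5, h6, h7⟩ := h
  have h := isQuad_minus 3 F a b
  obtain ⟨e, -, he⟩ := h1.exists_equiv_of_wittIdx h2 h (bMinus_sep 3 hab) (h3 ▸ even_two_mul 4) (by simp [h3]) h4
    (wittIdx_minus 3 hab)
  have he' : ∀ x, quadFormMinus 3 F a b (e x) = 1 * Q x := by simpa
  obtain ⟨x, hx⟩ := (oEquiv h).surjective (simHom h e he' g)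
  refine ⟨x, e v, fun hA => (mem_Omega_iff h x).2 (hx ▸ map_mem_commutator _ ((h1.mem_commutator_iff_of_char_two h2
    (h1.nonExc_of_finrank h2 (by omega)) CharTwo.two_eq_zero g).2 (h5 hA))), fun hA => by rw [h6 hA, map_zero],
    fun m hm => h7 m (funext fun y => e.injective ?_)⟩
  rw [Function.Semiconj.iterate_right (f := e) (gb := fun y => toLin' x.1.1 y + e v) (fun y => by
    rw [map_add, ← simHom_apply h e he', ← hx]; rfl) m y, hm, id, id]

theorem exists_adm (g : isometryGroup F (quadFormMinus 3 F a b)) : ∃ E, Ev g.1.1.charpoly E ∧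
    AdmS (Fintype.card F) 4 E ∧ ∀ m c, Kill 2 E m c → Kill 2 E m 1 := by
  have h := isQuad_minus 3 F a b
  have hB := bMinus_sep 3 hab
  obtain ⟨E, h1, h3, h4⟩ := exists_sy h hB g
  refine ⟨E, h1, h4.admS (by simpa using h3) (h1.det_eq_one_iff.1 ((det_oEquiv h g).symm.trans
    (h.det_eq_one_of_char_two hB (h.nonExc_of_finrank hB (by simp)) CharTwo.two_eq_zero _))), fun m c hc => ?_⟩
  obtain ⟨α, hα⟩ := Multiset.card_pos_iff_exists_mem.1 (h3 ▸ Fintype.card_pos)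
  have := hc.1 _ (h4.inv ▸ Multiset.mem_map_of_mem _ hα)
  rw [inv_pow, hc.1 α hα, inv_eq_self_iff, neg_one_eq_iff.2 rfl, or_self] at this
  exact this ▸ hc

omit hab [Fintype F] [CharP F 2] in
theorem isom_pow_eq_one {ι : Type} [Fintype ι] [DecidableEq ι] {Q : (ι → F) → F} (g : isometryGroup F Q) (m : ℕ) :
    g ^ m = 1 ↔ aeval g.1.1 (X ^ m - 1 : F[X]) = 0 := by
  rw [map_sub, map_pow, aeval_X, map_one, sub_eq_zero, ← Units.val_pow_eq_pow_val, Units.val_eq_one,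
    ← SubmonoidClass.coe_pow, OneMemClass.coe_eq_one]

omit hab [Fintype F] [CharP F 2] in
theorem isom_pow_of_dvd {ι : Type} [Fintype ι] [DecidableEq ι] {Q : (ι → F) → F} {g : isometryGroup F Q} {m : ℕ}
    (h : g.1.1.charpoly ∣ X ^ m - 1) : orderOf g ∣ m :=
  orderOf_dvd_of_pow_eq_one ((isom_pow_eq_one g m).2 (aeval_eq_zero_of_dvd_aeval_eq_zero h (aeval_self_charpoly _)))

theorem spec_o_minus : spec (isometryGroup F (quadFormMinus 3 F a b)) = SPE 2 (AdmS (L := Lc F) (Fintype.card F) 4) := by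
  refine subset_antisymm ?_ fun N hN => ?_
  · rintro _ ⟨g, rfl⟩
    obtain ⟨E, h1, h3, h4⟩ := exists_adm hab g
    exact ⟨E, h3, fun m c hc => isom_pow_of_dvd (by simpa using (h1.dvd_iff 2 (c := 1)).2 (by simpa using h4 m c hc))⟩
  obtain ⟨g, v, -, h1, h3⟩ := (rl_four hab False hN).out hab
  refine mem_spec_of_dvd ⟨g, rfl⟩ (Int.natCast_dvd_natCast.1 (h3 _ ?_))
  rw [aff_iter_eq_id, L0.aeval_toLin', (isom_pow_eq_one g _).1 (pow_orderOf_eq_one g), h1 id]
  simp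

theorem spec_aff_two : spec (AffO F (quadFormMinus 3 F a b)) = SPE 2 (AdmS (L := Lc F) (Fintype.card F) 4) := by
  classical
  haveI : Finite (AffO F (quadFormMinus 3 F a b)) := Finite.of_equiv _ SemidirectProduct.equivProd.symm
  refine subset_antisymm ?_ fun N hN => ?_
  · rintro _ ⟨y, rfl⟩
    obtain ⟨E, h1, h3, h4⟩ := exists_adm hab y.right.1
    refine ⟨E, h3, fun m c hc => ?_⟩
    by_cases h5 : 1 ∈ E
    · have h := isQuad_minus 3 F a b
      obtain ⟨E', ψ, h6, h7, h8⟩ := h1.exists_fac 1 (by simpa) (by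
        have := h.dick_eq_zero_of_mem_commutator (bMinus_sep 3 hab) ((mem_Omega_iff h _).1 y.right.2)
        rw [dick, movS, show (oEquiv h y.right.1).1.toLinearMap - LinearMap.id =
          (y.right.1.1.1 - scalar _ ((1 : Fˣ) : F)).mulVecLin from LinearMap.ext fun v => by
            simp [oEquiv_apply, sub_mulVec]] at this
        exact this.trans (by simp; rfl))
      exact AffO.dvd 2 h7 h8 (by simpa [h6] using h4 m c hc)
    refine AffO.dvd 2 h1 (aeval_self_charpoly _) ⟨by simpa using (h4 m c hc).1, fun α e he => hc.2 α e ?_⟩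
    by_cases h6 : α = 1
    · simp [h6, h5] at he
    · simpa [h6] using he
  obtain ⟨g, v, h1, -, h3⟩ := (rl_four hab True hN).out hab
  let y : AffO F (quadFormMinus 3 F a b) := ⟨.ofAdd v, g, h1 trivial⟩
  exact mem_spec_of_dvd ⟨y, rfl⟩ (Int.natCast_dvd_natCast.1 (h3 _ ((y.pow_eq_one _).1 (pow_orderOf_eq_one y))))

end Cfsg.Agent.H29
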