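import Mathlib
import Cfsg.Agent.H29.Cl2
import Cfsg.Agent.H29.Spec2
import Cfsg.Agent.H12.Stein
import Cfsg.Agent.H12.Orders

/-! The six-dimensional module of `G₂` in characteristic two; prime graphs of affine groups. -/

set_option autoImplicit false
set_option linter.unusedSectionVars false

namespace Cfsg.Agent.H29

open Matrix Polynomial Cfsg.Lie Cfsg.Agent.H12

theorem Ev.mem_iff {F : Type*} [Field F] {n : Type*} [Fintype n] [DecidableEq n] {A : Matrix n n F}
    {E : Multiset (Lc F)ˣ} (h : Ev A.charpoly E) {α : (Lc F)ˣ} :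
    α ∈ E ↔ ∃ v ≠ 0, A.map (algebraMap F (Lc F)) *ᵥ v = (α : Lc F) • v := by
  have e : ∀ v, (scalar n (α : Lc F) - A.map (algebraMap F (Lc F))) *ᵥ v = 0 ↔
      A.map (algebraMap F (Lc F)) *ᵥ v = (α : Lc F) • v := fun v => by
    rw [sub_mulVec, sub_eq_zero, eq_comm, scalar_apply, ← smul_one_eq_diagonal, smul_mulVec, one_mulVec]
  simp only [← e]
  rw [exists_mulVec_eq_zero_iff, ← eval_charpoly, charpoly_map, h, ← IsRoot.def, ← mem_roots (pol_monic E).ne_zero,
    roots_pol, Multiset.mem_map_of_injective Units.val_injective]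

theorem Ev.pow_eq_one {F : Type*} [Field F] {n : Type*} [Fintype n] [DecidableEq n] {A : Matrix n n F}
    {E : Multiset (Lc F)ˣ} (h : Ev A.charpoly E) {m : ℕ} (e : A ^ m = 1) {α : (Lc F)ˣ} (ha : α ∈ E) : α ^ m = 1 := by
  obtain ⟨v, h0, hv⟩ := h.mem_iff.1 ha
  have : ∀ k : ℕ, (A ^ k).map (algebraMap F (Lc F)) *ᵥ v = (α : Lc F) ^ k • v := fun k => by
    induction k with
    | zero => simp
    | succ k ih => rw [pow_succ, Matrix.map_mul, ← mulVec_mulVec, hv, mulVec_smul, ih, smul_smul, pow_succ']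
  have h1 := this m
  rw [e, Matrix.map_one _ (map_zero _) (map_one _), one_mulVec, eq_comm, ← sub_eq_zero, ← one_smul (Lc F) v, smul_smul,
    ← sub_smul, smul_eq_zero, mul_one, sub_eq_zero] at h1
  exact Units.ext (h1.resolve_right (by simpa using h0))

theorem Ev.one_mem {F : Type*} [Field F] {n : Type*} [Fintype n] [DecidableEq n] {A : Matrix n n F}
    {E : Multiset (Lc F)ˣ} (h : Ev A.charpoly E) {v : n → F} (h0 : v ≠ 0) (e : A *ᵥ v = v) : 1 ∈ E :=
  h.mem_iff.2 ⟨algebraMap F (Lc F) ∘ v, fun e => h0 (funext fun i => by simpa using congrFun e i), by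
    rw [Units.val_one, one_smul]
    exact funext fun i => by rw [← RingHom.map_mulVec, e]; rfl⟩

theorem card_ge_of_pows {M : Type*} [Group M] {E : Multiset M} {α : M} (l : List ℤ)
    (h : l.Pairwise fun a b => ¬ a ≡ b [ZMOD orderOf α]) (hE : ∀ i ∈ l, α ^ i ∈ E) : l.length ≤ E.card := by
  have : ((l.map (α ^ ·) : List M) : Multiset M) ≤ E := (Multiset.le_iff_subset (by
    rw [Multiset.coe_nodup, List.Nodup, List.pairwise_map]
    exact h.imp fun h e => h (zpow_eq_zpow_iff_modEq.1 e))).2 fun x hx => by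
      obtain ⟨i, hi, rfl⟩ := List.mem_map.1 hx; exact hE i hi
  simpa using Multiset.card_le_card this

theorem graph_sub {K V L : Type*} [Group K] [AddCommGroup V] [DistribMulAction K V] [Finite K] [Finite V] [Group L]
    [Finite L] (W : AddSubgroup V) (hW : ∀ k : K, ∀ v ∈ W, k • v ∈ W) {p : ℕ} (hp : p.Prime) (hV : ∀ v ∈ W, p • v = 0)
    {v : V} (hv : v ∈ W) (h0 : v ≠ 0) (h1 : ∀ r : ℕ, r.Prime → (r ∈ spec L ↔ r ∈ spec K ∨ r = p))
    (h2 : ∀ r s : ℕ, r.Prime → s.Prime → r ≠ s → r ≠ p → s ≠ p → (r * s ∈ spec L ↔ r * s ∈ spec K))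
    (h3 : ∀ r : ℕ, r.Prime → r ≠ p → (r * p ∈ spec L ↔ r * p ∈ spec K ∨
      ∃ k : K, ∃ v ∈ W, Aff.nrm k v ≠ 0 ∧ orderOf k = r)) (N : ℕ) :
    ∃ (H : Type) (_ : Group H) (_ : Finite H), N < Nat.card H ∧
      ((∀ p : ℕ, p.Prime → (p ∣ Nat.card L ↔ p ∣ Nat.card H)) ∧
      (∀ p q : ℕ, p.Prime → q.Prime → p ≠ q → ((∃ g : L, orderOf g = p * q) ↔ (∃ g : H, orderOf g = p * q)))) := by
  refine (Aff.unb_sub W hW hv h0).graph (fun r hr => ?_) (fun r s hr hs hne => ?_) N
  · rw [h1 r hr, Aff.mem_spec_sub' W hW hp hV]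
    refine or_congr_right ⟨fun e => ⟨1, v, hv, by rwa [Aff.nrm_one], by simp [e]⟩, fun ⟨k, _, _, _, e⟩ => ?_⟩
    exact ((Nat.prime_dvd_prime_iff_eq hp hr).1 (e ▸ dvd_mul_left _ _)).symm
  · wlog e : r ≠ p generalizing r s
    · rw [mul_comm]; exact this s r hs hr hne.symm (not_not.1 e ▸ hne.symm)
    rw [Aff.mem_spec_sub' W hW hp hV]
    by_cases e' : s = p
    · rw [e', h3 r hr e]
      simp only [Nat.mul_left_inj hp.ne_zero, eq_comm (a := r)]
    · rw [h2 r s hr hs hne e e', iff_self_or]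
      rintro ⟨k, _, _, _, h⟩
      rcases (Nat.Prime.dvd_mul hp).1 (h ▸ dvd_mul_left p _) with h | h
      · exact absurd ((Nat.prime_dvd_prime_iff_eq hp hr).1 h).symm e
      · exact absurd ((Nat.prime_dvd_prime_iff_eq hp hs).1 h).symm e'

namespace G6

/-- the roots -/
def rv (r : ℕ) : ℤ × ℤ := [(-3, -2), (-3, -1), (-2, -1), (-1, -1), (-1, 0), (0, -1), (0, 1), (1, 0), (1, 1), (2, 1),
  (3, 1), (3, 2)].getD r (0, 0)

/-- the weights -/
def wt (i : Fin 6) : ℤ × ℤ := rv ([2, 3, 4, 7, 8, 9].getD i 0)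

/-- the exponents `2 ^ e` of an entry -/
def ex (r : ℕ) (i j : Fin 6) : List ℕ :=
  if wt i = wt j + rv r then [0] else if wt i = wt j + rv r + rv r then [1] else []

/-- formal vectors -/
abbrev FV := List (Fin 6 × ℕ × ℕ)

def nap (r a b : ℕ) (l : FV) : FV := l.flatMap fun x => (List.finRange 6).flatMap fun i =>
  (ex r i x.1).map fun e => (i, x.2.1 + a * 2 ^ e, x.2.2 + b * 2 ^ e)

def app (c : ℕ × ℤ × ℕ × ℕ) (l : FV) : FV := if c.2.1 % 2 = 0 then l else l ++ nap c.1 c.2.2.1 c.2.2.2 l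

def eqv (l l' : FV) : Bool := (l ++ l').all fun x => (l ++ l').count x % 2 == 0

variable {K : Type*} [Field K] [CharP K 2]

def nm (r : ℕ) (t : K) : Matrix (Fin 6) (Fin 6) K := of fun i j => ((ex r i j).map fun e => t ^ 2 ^ e).sum

def xm (r : ℕ) (t : K) : Matrix (Fin 6) (Fin 6) K := 1 + nm r t

def ev (t u : K) (l : FV) : Fin 6 → K := (l.map fun x => Pi.single x.1 (t ^ x.2.1 * u ^ x.2.2)).sum

theorem ev_append (t u : K) (l l' : FV) : ev t u (l ++ l') = ev t u l + ev t u l' := by simp [ev]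

theorem ev_single (t u : K) (j : Fin 6) : ev t u [(j, 0, 0)] = Pi.single j 1 := by simp [ev]

theorem nm_zero (r : ℕ) : nm r (0 : K) = 0 := by ext; simp [nm]

theorem nm_add (r : ℕ) (t u : K) : nm r (t + u) = nm r t + nm r u := by
  ext; simp [nm, add_pow_char_pow, List.sum_map_add]

theorem nm_ev (r a b : ℕ) (t u : K) (l : FV) : nm r (t ^ a * u ^ b) *ᵥ ev t u l = ev t u (nap r a b l) := by
  induction l with
  | nil => simp [ev, nap]
  | cons x l ih =>
    rw [← List.singleton_append, ev_append, mulVec_add, ih, nap, nap, List.flatMap_append, ev_append]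
    congr 1
    ext i
    simp only [ev, List.map_cons, List.map_nil, List.sum_cons, List.sum_nil, add_zero, mulVec_single, nm,
      List.flatMap_cons, List.flatMap_nil, List.append_nil, List.map_flatMap, List.map_map, List.flatMap_def,
      List.sum_flatten, ← Fin.sum_univ_def, Function.comp_def, Finset.sum_apply, List.flatten_cons, List.flatten_nil,
      List.map_flatten]
    rw [Finset.sum_eq_single i (fun j _ hj => by
      induction ex r j x.1 with
      | nil => rfl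
      | cons _ _ ih => simp [hj.symm, ih]) (by simp)]
    simp only [Pi.smul_apply, col_apply, of_apply, MulOpposite.smul_eq_mul_unop, MulOpposite.unop_op]
    induction ex r i x.1 with
    | nil => simp
    | cons _ _ ih => simp [add_mul, ih]; ring

theorem xm_ev (c : ℕ × ℤ × ℕ × ℕ) (t u : K) (l : FV) :
    xm c.1 ((c.2.1 : K) * (-t) ^ c.2.2.1 * u ^ c.2.2.2) *ᵥ ev t u l = ev t u (app c l) := by
  rw [app, CharP.intCast_eq_intCast_mod K 2]
  split_ifs with h
  · simp [h, xm, nm_zero]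
  · rw [show c.2.1 % (2 : ℕ) = 1 by omega, Int.cast_one, one_mul, CharTwo.neg_eq, xm, add_mulVec, one_mulVec, nm_ev,
      ev_append]

theorem ev_eq {l l' : FV} (h : eqv l l' = true) (t u : K) : ev t u l = ev t u l' := by
  have h2 : ∀ v : Fin 6 → K, 2 • v = 0 := fun v => funext fun i => by simp [CharTwo.two_eq_zero]
  have : ev t u (l ++ l') = 0 := by
    rw [ev, Finset.sum_list_map_count]
    refine Finset.sum_eq_zero fun x hx => ?_
    obtain ⟨k, hk⟩ := Nat.dvd_of_mod_eq_zero (beq_iff_eq.1 (List.all_eq_true.1 h x (List.mem_toFinset.1 hx)))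
    rw [show ∀ n, n = List.count x (l ++ l') → n • (Pi.single x.1 (t ^ x.2.1 * u ^ x.2.2) : Fin 6 → K) = 0 from
      fun n e => by rw [e, hk, mul_smul, h2]]
    congr!
  rw [ev_append] at this
  rw [eq_neg_of_add_eq_zero_left this]
  exact funext fun i => CharTwo.neg_eq _

theorem word_ev (w : List (ℕ × ℤ × ℕ × ℕ)) (t u : K) (l : FV) :
    (w.map fun c => xm c.1 ((c.2.1 : K) * (-t) ^ c.2.2.1 * u ^ c.2.2.2)).prod *ᵥ ev t u l = ev t u (w.foldr app l) := by
  induction w with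
  | nil => simp
  | cons c w ih => rw [List.map_cons, List.prod_cons, ← mulVec_mulVec, ih, xm_ev, List.foldr_cons]

theorem mat_ext {A B : Matrix (Fin 6) (Fin 6) K} (t u : K)
    (h : ∀ j, A *ᵥ ev t u [(j, 0, 0)] = B *ᵥ ev t u [(j, 0, 0)]) : A = B := by
  ext i j
  simpa [ev_single] using congrFun (h j) i

theorem add_chk : ∀ r < 12, ∀ j, eqv ([(j, 0, 0)] ++ nap r 1 0 [(j, 0, 0)] ++ nap r 0 1 [(j, 0, 0)])
    (app (r, 1, 1, 0) (app (r, 1, 0, 1) [(j, 0, 0)])) = true := by decide +kernel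

theorem lt_chk : ∀ r < 12, ∀ s < 12, ∀ c ∈ chevG2.commTerms r s, c.1 < 12 := by decide +kernel

theorem comm_chk : ∀ r < 12, ∀ s < 12, s = r ∨ s = chevG2.neg r ∨ ∀ j,
    eqv (app (s, 1, 0, 1) (app (r, 1, 1, 0) [(j, 0, 0)]))
      (app (r, 1, 1, 0) (app (s, 1, 0, 1) ((chevG2.commTerms r s).foldr app [(j, 0, 0)]))) = true := by decide +kernel

theorem sym_chk : ∀ r < 12, ∀ i j, ex r i j = ex r j.rev i.rev := by decide +kernel

theorem xm_t (r : ℕ) (t u : K) (l : FV) : xm r t *ᵥ ev t u l = ev t u (app (r, 1, 1, 0) l) := by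
  simpa [CharTwo.neg_eq] using xm_ev (r, 1, 1, 0) t u l

theorem xm_u (r : ℕ) (t u : K) (l : FV) : xm r u *ᵥ ev t u l = ev t u (app (r, 1, 0, 1) l) := by
  simpa using xm_ev (r, 1, 0, 1) t u l

theorem xm_add {r : ℕ} (hr : r < 12) (t u : K) : xm r (t + u) = xm r t * xm r u := mat_ext t u fun j => by
  rw [← mulVec_mulVec, xm_u, xm_t, ← ev_eq (add_chk r hr j), ev_append, ev_append, ← nm_ev, ← nm_ev, xm, nm_add]
  simp [add_mulVec, add_assoc]

theorem xm_zero (r : ℕ) : xm r (0 : K) = 1 := by simp [xm, nm_zero]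

theorem xm_sq {r : ℕ} (hr : r < 12) (t : K) : xm r t * xm r t = 1 := by
  rw [← xm_add hr, CharTwo.add_self_eq_zero, xm_zero]

variable (K) in
/-- the root elements on the six-dimensional module -/
def st : StSys (cdOf chevG2) K (GL (Fin 6) K) where
  x r t := ⟨xm r t, xm r t, xm_sq r.2 t, xm_sq r.2 t⟩
  add r t u := Units.ext (xm_add r.2 t u)
  comm r s h1 h2 t u := Units.ext (mat_ext t u fun j => by
    have h3 := lt_chk r r.2 s s.2
    have h4 := ((comm_chk r r.2 s s.2).resolve_left fun e => h1 (Fin.ext e)).resolve_left fun e => h2 (Fin.ext e)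
    have e : (((((cdOf chevG2).terms r s).map fun c => (⟨xm c.1 ((c.2.1 : K) * (-t) ^ c.2.2.1 * u ^ c.2.2.2), _,
        xm_sq c.1.2 _, xm_sq c.1.2 _⟩ : GL (Fin 6) K)).prod : GL (Fin 6) K) : Matrix (Fin 6) (Fin 6) K) =
        ((chevG2.commTerms r s).map fun c => xm c.1 ((c.2.1 : K) * (-t) ^ c.2.2.1 * u ^ c.2.2.2)).prod := by
      rw [← Units.coeHom_apply, map_list_prod, List.map_map, cdOf, List.map_map]
      exact congrArg List.prod (List.map_congr_left fun c hc => by simp [finR_val r (h3 c hc)])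
    simp only [Units.val_mul, ← mulVec_mulVec]
    rw [e, word_ev, xm_t, xm_u, xm_u, xm_t, ev_eq (h4 j)])

theorem exists_rep [Finite K] : ∃ ρ : chevG2.group K →* GL (Fin 6) K, (grpSt chevG2 K).Hom (st K) ρ := by
  obtain ⟨θ, hθ⟩ := stSt_lift (grpSt_r3 (D := chevG2) (K := K))
  obtain ⟨f, hf⟩ := stSt_lift (chev_nc (st K)).r3_of_finite
  have h1 := hom_grp_ker stSt_top hθ
  rw [center_eq_map stSt_nm stSt_top stSt_r3, hT_ker_G2, Subgroup.map_bot, MonoidHom.ker_eq_bot_iff] at h1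
  let e := MulEquiv.ofBijective θ ⟨h1, hθ.surjective grpSt_top⟩
  exact ⟨f.comp e.symm.toMonoidHom, fun r t => by
    rw [← hf, ← hθ]; exact congrArg f (e.symm_apply_apply _)⟩

theorem rep_sym {ρ : chevG2.group K →* GL (Fin 6) K} (h : (grpSt chevG2 K).Hom (st K) ρ) (g : chevG2.group K) :
    (ρ g : Matrix (Fin 6) (Fin 6) K)ᵀ.submatrix Fin.rev Fin.rev * ρ g = 1 := by
  refine Subgroup.iSup_induction _ (C := fun g => (ρ g : Matrix (Fin 6) (Fin 6) K)ᵀ.submatrix Fin.rev Fin.rev * ρ g = 1)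
    (grpSt_top.ge (Subgroup.mem_top g)) (fun r x hx => ?_) ?_ fun a b ha hb => ?_
  · obtain ⟨t, rfl⟩ := (StSys.mem_U _).1 hx
    rw [h]
    refine (congrArg (· * xm r t) ?_).trans (xm_sq r.2 t)
    ext i j
    simp [st, xm, nm, sym_chk r r.2 i j, one_apply, eq_comm]
  · simp [submatrix_one _ Fin.rev_injective]
  · rw [map_mul, Units.val_mul, transpose_mul, submatrix_mul _ _ _ Fin.rev _ Fin.rev_bijective, mul_assoc,
      ← mul_assoc _ (ρ a : Matrix (Fin 6) (Fin 6) K), ha, one_mul, hb]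

theorem fpf [Fintype K] (hK : Fintype.card K = 4) {A : Matrix (Fin 6) (Fin 6) K}
    (h : Aᵀ.submatrix Fin.rev Fin.rev * A = 1) {m : ℕ} (hm : m = 7 ∨ m = 13) (e : A ^ m = 1) {v : Fin 6 → K}
    (h0 : v ≠ 0) (hv : A *ᵥ v = v) : A = 1 := by
  classical
  have hp : m.Prime := by rcases hm with rfl | rfl <;> norm_num
  haveI := Fact.mk hp
  obtain ⟨E, hE, hc⟩ := exists_ev_mat (A := A) (isUnit_det_of_left_inverse h).ne_zero
  have hi : E.map (·⁻¹) = E := (hE.inv (mul_eq_one_comm.1 h)).unique (by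
    rwa [show Aᵀ.submatrix Fin.rev Fin.rev = reindex Fin.revPerm Fin.revPerm Aᵀ from rfl, charpoly_reindex,
      charpoly_transpose])
  have h4 : ∀ β ∈ E, β ^ 4 ∈ E := fun β hb => hE.frob ▸ hK ▸ Multiset.mem_map_of_mem _ hb
  have h5 : ∀ β ∈ E, β⁻¹ ∈ E := fun β hb => hi ▸ Multiset.mem_map_of_mem _ hb
  by_cases h1 : ∀ α ∈ E, α = 1
  · obtain ⟨ψ, hψ⟩ := (hE.dvd_iff 2 (m := 8) (c := 1)).2 ⟨fun α ha => by simp [h1 α ha], fun α e he => by
      have : 2 ^ e < 2 ^ 3 := he.trans_le ((Multiset.count_le_card _ _).trans (by simp [hc]))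
      exact pow_dvd_pow 2 (show e + 1 ≤ 3 from (Nat.pow_lt_pow_iff_right one_lt_two).1 this)⟩
    have h8 := congrArg (aeval A) hψ
    simp only [map_sub, map_mul, aeval_self_charpoly, zero_mul, map_pow, aeval_X, Units.val_one, map_one,
      sub_eq_zero] at h8
    exact (pow_eq_one_iff_of_coprime (m := 8) (n := m) (by rcases hm with rfl | rfl <;> norm_num)).1 ⟨h8, e⟩
  push Not at h1
  obtain ⟨α, ha, h1⟩ := h1
  have := card_ge_of_pows (E := E) (α := α) [0, 1, 4, 16, -1, -4, -16] (by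
    rw [orderOf_eq_prime (hE.pow_eq_one e ha) h1]; rcases hm with rfl | rfl <;> decide) (by
    have a1 := h4 _ ha
    have a2 := h4 _ a1
    rw [← pow_mul] at a2
    simpa [zpow_ofNat] using ⟨hE.one_mem h0 hv, ha, a1, a2, h5 _ ha, h5 _ a1, h5 _ a2⟩)
  simp [hc] at this

theorem two_mul_mem [Finite K] {c : K} {m : ℕ} (hp : m.Prime) (h2 : m ≠ 2)
    (h : (H19.St.xx 1 * H19.St.yy c) ^ m = 1) : m * 2 ∈ spec (chevG2.group K) := by
  obtain ⟨ρ, hρ⟩ := exists_rep (K := K)
  haveI := Fact.mk hp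
  let S := grpSt chevG2 K
  obtain ⟨φ, -, h1, h3⟩ := (chev_nc S).exists_sl2 ⟨6, by decide⟩ (grpSt_r3 _)
  have e1 : orderOf (φ (H19.St.xx 1 * H19.St.yy c)) = m := orderOf_eq_prime (by rw [← map_pow, h, map_one]) fun e => by
    rw [map_mul, h1, h3, mul_eq_one_iff_eq_inv, ← S.x_neg] at e
    have := congrArg (fun g => (ρ g : Matrix (Fin 6) (Fin 6) K) 4 3) e
    simp only [S, hρ _ _] at this
    change xm 6 1 4 3 = xm 5 (-c) 4 3 at this
    simp [xm, nm, show ex 6 4 3 = [0] by decide, show ex 5 4 3 = [] by decide] at this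
  have e2 : orderOf (S.x ⟨9, by decide⟩ 1) = 2 := orderOf_eq_prime (by
    rw [pow_two, ← S.add, CharTwo.add_self_eq_zero, S.x_zero]) fun e => by
    have := congrArg (fun g => (ρ g : Matrix (Fin 6) (Fin 6) K) 5 0) e
    simp only [S, hρ _ _] at this
    change xm 9 1 5 0 = _ at this
    simp [xm, nm, show ex 9 5 0 = [1] by decide] at this
  refine ⟨φ (H19.St.xx 1 * H19.St.yy c) * S.x ⟨9, by decide⟩ 1, ?_⟩
  refine (Commute.orderOf_mul_eq_mul_orderOf_of_coprime ?_ (by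
    rw [e1, e2]; exact (Nat.coprime_primes hp Nat.prime_two).2 h2)).trans (by rw [e1, e2])
  rw [map_mul, h1, h3]
  exact Commute.mul_left (S.commute_of_terms (by decide) (by decide) (by decide) _ _)
    (S.commute_of_terms (by decide) (by decide) (by decide) _ _)

end G6

end Cfsg.Agent.H29
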