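import Mathlib
import Cfsg.Agent.H9.TwoCl
import Cfsg.Agent.H27.Kazarin

/-! Groups whose `p`-regular classes have two sizes. -/

set_option autoImplicit false
set_option linter.unusedSectionVars false
set_option linter.unusedVariables false

namespace Cfsg.Agent.H29.PReg

open Cfsg Subgroup Cfsg.Agent.FT Cfsg.Agent.H28 Cfsg.Agent.H9.TC
open scoped commutatorElement

variable {G : Type*} [Group G] [Finite G] {p q r s t k : ℕ} {x y : G}

theorem le_core {K Q A : Subgroup G} (hq : q.Prime) (hs : Sol K) (hQ : Syl q Q K) (hA : A ≤ K)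
    (hA' : PiGrp {q}ᶜ A) (hn : Q ≤ N(A)) : A ≤ O[{q}ᶜ](K) := by
  refine le_p'core_of_quo_cents hs hA hA' ?_
  rw [← quo_syl_ppCore hq (hQ.inf_nml (ppCore_nml q K))]
  refine quo_cents_of_comm_le (le_p'core_of_le_ppCore hq ?_ (hA'.mono (comm_le_left (inf_le_left.trans hn))))
  exact (commutator_mono le_rfl inf_le_right).trans (comm_le_right (hA.trans (ppCore_nrm q K)))

/-- all noncentral `p'`-elements have class size `k` -/
def Hy (G : Type*) [Group G] (p k : ℕ) : Prop := ∀ x : G, PiElt {p}ᶜ x → x ∉ center G → C[x].index = k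

/-- noncentral `t`-elements exist for at least two primes `t ≠ p` -/
def Tw (G : Type*) [Group G] (p : ℕ) : Prop :=
  ∀ s : ℕ, ∃ t : ℕ, t.Prime ∧ t ≠ s ∧ t ≠ p ∧ ∃ y : G, PiElt {t} y ∧ y ∉ center G

theorem Hy.eq (h : Hy G p k) (hx : PiElt {p}ᶜ x) (hx' : x ∉ center G) (hy : PiElt {p}ᶜ y) (hy' : y ∉ center G)
    (e : C[x] ≤ C[y]) : C[x] = C[y] :=
  eq_of_le_of_index_le e (by rw [h x hx hx', h y hy hy'])

theorem Hy.le (h : Hy G p k) (hst : s ≠ t) (hs : s ≠ p) (ht : t ≠ p) (hx : PiElt {s} x) (hx' : x ∉ center G)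
    (hy : PiElt {t} y) (hc : y ∈ C[x]) : C[x] ≤ C[y] := by
  have e := cen1_mul_pi hx (hy.pi (π := {s}ᶜ) hst.symm) (mem_cen1.1 hc).symm
  have e1 : x * y ∉ center G := fun e' => hx' (cs_eq_one.1 (Nat.dvd_one.1
    (cs_eq_one.2 e' ▸ index_dvd_of_le (e.le.trans inf_le_left))))
  exact (h.eq ((hx.pi (π := {p}ᶜ) hs).mul (hy.pi (π := {p}ᶜ) ht) (mem_cen1.1 hc).symm) e1 (hx.pi (π := {p}ᶜ) hs) hx'
    (e.le.trans inf_le_left)).ge.trans (e.le.trans inf_le_right)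

theorem Hy.ex (h : Hy G p k) (hx : PiElt {p}ᶜ x) (hx' : x ∉ center G) (ht : t.Prime) (htp : t ≠ p)
    (hy : PiElt {t} y) (hy' : y ∉ center G) : ∃ w ∈ C[x], PiElt {t} w ∧ w ∉ center G := by
  refine exists_pElt_not_mem ht ?_
  have h1 := dvd_relIndex_of_pElt (K := center G) (H := C[y]) (le_top.trans (normalizer_eq_top _).ge)
    (self_mem_cen1 y) hy hy' ht
  have h2 := relIndex_mul_index (center_le_cen1 x)
  rw [← relIndex_mul_index (center_le_cen1 y), h x hx hx', h y (hy.pi (π := {p}ᶜ) htp) hy'] at h2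
  rwa [Nat.eq_of_mul_eq_mul_right (h x hx hx' ▸ cs_pos x) h2]

theorem Hy.le' (h : Hy G p k) (h2 : Tw G p) (hs : s ≠ p) (ht : t ≠ p) (hx : PiElt {s} x) (hx' : x ∉ center G)
    (hy : PiElt {t} y) (hc : y ∈ C[x]) : C[x] ≤ C[y] := by
  by_cases e : s = t
  · obtain ⟨u, hu, hus, hup, v, hv, hv'⟩ := h2 s
    obtain ⟨w, hw, hw1, hw2⟩ := h.ex (hx.pi (π := {p}ᶜ) hs) hx' hu hup hv hv'
    have e1 := h.eq (hx.pi (π := {p}ᶜ) hs) hx' (hw1.pi (π := {p}ᶜ) hup) hw2 (h.le hus.symm hs hup hx hx' hw1 hw)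
    rw [e1] at hc ⊢
    exact h.le (e ▸ hus) hup ht hw1 hw2 hy hc
  · exact h.le e hs ht hx hx' hy hc

theorem Hy.good (h : Hy G p k) (h2 : Tw G p) (hs : s ≠ p) (hx : PiElt {s} x) (hx' : x ∉ center G)
    (ht : t.Prime) (htp : t ≠ p) (hy : PiElt {t} y) (hy' : y ∉ center G) {S : Subgroup G} (hS : Syl t S C[x]) :
    Good C[x] t S := by
  have h1 : C[x] ≤ C(S) := centsC fun b hb => le_cen1.1 (h.le' h2 hs htp hx hx' (hS.pi.piElt hb) (hS.le hb))
  obtain ⟨w, hw, hw1, hw2⟩ := h.ex (hx.pi (π := {p}ᶜ) hs) hx' ht htp hy hy'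
  refine ⟨ht, hS.pi, h1, hS.le, hS.norms_of_nml (h1.trans (cen_le_nrm _)) le_rfl, fun e => hw2 (e ?_),
    fun b hb hz => ?_⟩
  · exact hS.mem_of_cen hw hw1 (cen_anti hS.le (le_cen1.1 (h.le' h2 hs htp hx hx' hw1 hw)))
  · exact (h.eq (hx.pi (π := {p}ᶜ) hs) hx' ((hS.pi.piElt hb).pi (π := {p}ᶜ) htp) hz
      (h.le' h2 hs htp hx hx' (hS.pi.piElt hb) (hS.le hb))).ge

theorem Hy.exn (h : Hy G p k) (hx : PiElt {p}ᶜ x) (hx' : x ∉ center G) (ht : t.Prime) (hd : t ∣ k)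
    {T : Subgroup G} (hT : Syl t T ⊤) : ¬ T ≤ C[x] := fun e =>
  not_dvd_index_of_syl_le ht hT e (h x hx hx' ▸ hd)

theorem Hy.pk (h : Hy G p k) (hp : p.Prime) (h2 : Tw G p) : PiNat {p} k := by
  intro q hq hqk
  by_contra hqp
  have hqp : q ≠ p := hqp
  have nn : ∀ (X K : Subgroup G) [K.Normal], X ≤ N(K) := fun X K _ => le_top.trans (normalizer_eq_top _).ge
  obtain ⟨r, hr, hrq, hrp, y, hy, hy'⟩ := h2 q
  have hyp := hy.pi (π := {p}ᶜ) hrp
  obtain ⟨Q, hQ⟩ := exists_syl q (⊤ : Subgroup G)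
  let f := QuotientGroup.mk' (center G)
  have hQ1 : Q.map f ≠ ⊥ := fun e => h.exn hyp hy' hq hqk hQ
    ((((Subgroup.map_eq_bot_iff _).1 e).trans (QuotientGroup.ker_mk' _).le).trans (center_le_cen1 y))
  obtain ⟨_, ⟨⟨x, hxQ, rfl⟩, hxc⟩, hx1⟩ := (Subgroup.bot_or_exists_ne_one _).resolve_left
    ((hQ.pi.map f).meet_cen (hQ.pi.map f) (le_nrm _) hQ1)
  have hxq := hQ.pi.piElt hxQ
  have hxp := hxq.pi (π := {p}ᶜ) hqp
  have hx' : x ∉ center G := fun e => hx1 ((QuotientGroup.eq_one_iff x).2 e)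
  have hc : ∀ u ∈ Q, f u * f x = f x * f u := fun u hu => hxc _ ⟨u, hu, rfl⟩
  have hQn : Q ≤ N(C[x]) := fun u hu => cj_eq_self.1 (by
    rw [cj_cen1]
    refine cen1_eq_of_mk_eq ?_
    change f _ = f x
    rw [map_mul, map_mul, hc u hu, map_inv, mul_inv_cancel_right])
  obtain ⟨u, huQ, hu⟩ := SetLike.not_le_iff_exists.1 (h.exn hxp hx' hq hqk hQ)
  have huq := hQ.pi.piElt huQ
  have hu' : u ∉ center G := fun e => hu (center_le_cen1 x e)
  have hxu : x ∉ C[u] := fun e => hu (mem_cen1.2 (mem_cen1.1 e).symm)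
  have hxn : x ∈ N(C[u]) := cj_eq_self.1 (by
    rw [cj_cen1]
    refine cen1_eq_of_mk_eq ?_
    change f _ = f u
    rw [map_mul, map_mul, ← hc u huQ, map_inv, mul_inv_cancel_right])
  have hk : ∀ t : ℕ, t.Prime → t ≠ p → t ≠ q → ¬ t ∣ k := fun t ht htp htq hd => by
    obtain ⟨T, hT⟩ := exists_syl t (⊤ : Subgroup G)
    obtain ⟨v, hv, hv'⟩ := SetLike.not_le_iff_exists.1 (h.exn hxp hx' ht hd hT)
    obtain ⟨A, hA⟩ := exists_syl q C[x]
    obtain ⟨B, hB⟩ := exists_syl t C[x]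
    have g1 := h.good h2 hqp hxq hx' hq hqp hxq hx' hA
    have g2 := h.good h2 hqp hxq hx' ht htp (hT.pi.piElt hv) (fun e => hv' (center_le_cen1 x e)) hB
    refine g1.false g2 htq.symm ⟨u, hQn huQ, hu, huq⟩
      (exists_nrm (N := ⊤) ht hB (h x hxp hx' ▸ hd) ?_)
    rw [inf_top_eq]; exact g2.cen_le.antisymm g2.le
  have hE : PiNat {p} C[f x].index := by
    have i1 : (C[f x].comap f).index = C[f x].index := index_comap_of_surjective _ (QuotientGroup.mk'_surjective _)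
    have i2 : Q ≤ C[f x].comap f := fun u hu => mem_comap.2 (mem_cen1.2 (hc u hu))
    have i3 : C[x] ≤ C[f x].comap f := fun g hg => mem_comap.2 (mem_cen1.2 (by
      rw [← map_mul, ← map_mul, mem_cen1.1 hg]))
    have i4 := index_dvd_of_le i3
    rw [h x hxp hx', i1] at i4
    have i5 := not_dvd_index_of_syl_le hq hQ i2
    rw [i1] at i5
    intro t ht hd
    by_contra htp
    by_cases e : t = q
    · exact i5 (e ▸ hd)
    · exact hk t ht htp e (hd.trans i4)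
  obtain ⟨j, hj⟩ := hE.exists_pow (cs_pos _).ne'
  have hsol := H27.kazarin hp (x := f x) (k := j) hj.dvd
  let K : Subgroup G := (normalClosure {f x}).comap f
  have hK : Sol K := by
    have : Group.IsSolvable f.ker := by rw [QuotientGroup.ker_mk']; exact (Ab.nil inferInstance : Nil (center G)).sol
    exact H2.isSolvable_comap f _
  have hxK : x ∈ K := subset_normalClosure (s := {f x}) rfl
  have hZK : center G ≤ K := fun z hz => by
    refine mem_comap.2 ?_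
    rw [show f z = 1 from (QuotientGroup.eq_one_iff z).2 hz]; exact one_mem _
  have hrk := hk r hr hrp hrq
  have syl : ∀ w : G, PiElt {p}ᶜ w → w ∉ center G → ∃ R, Syl r R ⊤ ∧ Syl r R C[w] := fun w hw hw' => by
    obtain ⟨R, hR, hle⟩ := exists_syl_le_of_not_dvd hr (H := C[w]) (h w hw hw' ▸ hrk)
    exact ⟨R, hR, hR.subl hle le_top⟩
  obtain ⟨R, hR, hRx⟩ := syl x hxp hx'
  obtain ⟨S, hS, hSu⟩ := syl u (huq.pi (π := {p}ᶜ) hqp) hu'
  have g1 := h.good h2 hqp hxq hx' hr hrp hy hy' hRx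
  have g2 := h.good h2 hqp huq hu' hr hrp hy hy' hSu
  have hxS : ⟪x⟫ ≤ N(S) := zpowers_le.2 (g2.nrm hxn)
  have hSK : S ≤ K := by
    rw [← (coprime_cent_prod hxS (hS.pi.cop_of_ne hxq.zpowers hrq) hS.pi.sol).sup]
    refine sup_le ((commutator_mono le_rfl (zpowers_le.2 hxK)).trans (comm_le_right (nn _ _))) fun v hv => hZK ?_
    by_contra hz
    exact hxu (g2.cen v hv.1 hz (mem_cen1.2 (hv.2 x (mem_zpowers x))))
  have hRK : R ≤ K := hS.le_of_syl_le (nn _ _) hSK hR.pi le_top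
  have hKn : K ⊴ ⊤ := ⟨le_top, nn _ _⟩
  have hRN : R ≤ O[{q}ᶜ](K) := le_core hq hK (hQ.inf_nml hKn) hRK (hR.pi.p' hrq)
    (inf_le_left.trans (hQn.trans g1.nrm))
  have hN := hKn.pcore {q}ᶜ
  have hSN : S ≤ O[{q}ᶜ](K) := hR.le_of_syl_le hN.nrm hRN hS.pi le_top
  have hxR : x ∈ C(R) := g1.le (self_mem_cen1 x)
  obtain ⟨c, hc1, hc2⟩ := coprime_Sylow_trans (le_top.trans hN.nrm) ((pcore_pi _ _).cop' hxq.zpowers)
    (Or.inr (sol_zpowers x)) (hR.subl hRN le_top) ((zpowers_le.2 hxR).trans (cen_le_nrm _))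
    (hS.subl hSN le_top) hxS
  refine hxu (g2.cen_le ?_)
  rw [hc2, ← cj_cen]
  have : x = c * x * c⁻¹ := by rw [← hc1.2 x (mem_zpowers x), mul_inv_cancel_right]
  rw [this, conj_mem_cj]
  exact hxR

/-- if all primary elements for primes outside `{p, q}` are central, `G = PQ × A` -/
theorem split (hp : p.Prime) (hq : q.Prime) (hne : q ≠ p)
    (h : ∀ t : ℕ, t.Prime → t ≠ q → t ≠ p → ∀ y : G, PiElt {t} y → y ∈ center G) {P Q : Subgroup G}
    (hP : Syl p P ⊤) (hQ : Syl q Q ⊤) :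
    ∃ A : Subgroup G, A ≤ center G ∧ #(P ⊔ Q) = #P * #Q ∧ (P ⊔ Q).Normal ∧ (P ⊔ Q) ⊓ A = ⊥ ∧ (P ⊔ Q) ⊔ A = ⊤ := by
  have hZ : Nil (center G) := Ab.nil inferInstance
  have h1 : Hall {p, q}ᶜ (center G ⊓ O[{p, q}ᶜ](center G)) ⊤ := by
    rw [inf_eq_right.2 (pcore_le _ _)]
    refine ⟨le_top, pcore_pi _ _, piNat_relIndex_of_forall fun t ht ht' y _ hy => ?_⟩
    rw [compl_compl] at ht'
    exact hZ.mem_pcore (h t ht (fun e => ht' (by simp [e])) (fun e => ht' (by simp [e])) y hy) (hy.pi ht')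
  set A := center G ⊓ O[{p, q}ᶜ](center G)
  have hA : A ≤ center G := inf_le_left
  have hc : ∀ X : Subgroup G, A ≤ C(X) := fun X => hA.trans (center_le_cen' X)
  obtain ⟨H, hH, hsd⟩ := h1.exists_compl ((centsC (hc ⊤)).trans (cen_le_nrm _))
  rw [compl_compl] at hH
  have hn : ⊤ ≤ N(H) := hsd.sup.ge.trans (sup_le ((hc H).trans (cen_le_nrm _)) (le_nrm H))
  have hPH : P ≤ H := hH.le_of_nml hn (hP.pi.pi (by simp)) le_top
  have hQH : Q ≤ H := hH.le_of_nml hn (hQ.pi.pi (by simp)) le_top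
  have hP' := hP.subl hPH le_top
  have hQ' := hQ.subl hQH le_top
  have h2 : ∀ L : Subgroup G, L ≤ H → ¬ p ∣ L.relIndex H → PiNat {q} (L.relIndex H) := fun L hL hd t ht ht' => by
    rcases hH.pi t ht (ht'.trans (relIndex_dvd L H)) with e | e
    · exact absurd (e ▸ ht') hd
    · exact e
  have e : P ⊔ Q = H := by
    have a1 : ¬ p ∣ (P ⊔ Q).relIndex H := fun e =>
      (p'nat_iff hp).1 hP'.idx (e.trans (relIndex_dvd_of_le_left H le_sup_left))
    have a2 : ¬ q ∣ (P ⊔ Q).relIndex H := fun e =>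
      (p'nat_iff hq).1 hQ'.idx (e.trans (relIndex_dvd_of_le_left H le_sup_right))
    refine (sup_le hPH hQH).antisymm (relIndex_eq_one.1 ?_)
    by_contra e
    obtain ⟨t, ht, hd⟩ := Nat.exists_prime_and_dvd e
    exact a2 (h2 _ (sup_le hPH hQH) a1 t ht hd ▸ hd)
  rw [e]
  refine ⟨A, hA, ?_, normalizer_eq_top_iff.1 (top_le_iff.1 hn), by rw [inf_comm, hsd.inf], by rw [sup_comm, hsd.sup]⟩
  rw [hQ'.card, ← card_mul_relIndex hPH, mul_comm #P (P.relIndex H),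
    partn_eq_of_mul (h2 P hPH ((p'nat_iff hp).1 hP'.idx)) (hP.pi.p' hne.symm)
      (by rw [mul_comm, card_mul_relIndex hPH]; exact card_ne_zero _), mul_comm]

end Cfsg.Agent.H29.PReg
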