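import Mathlib
import Cfsg.Agent.H29.Pn6
import Cfsg.Agent.H13.PnD
import Cfsg.Agent.H22.PnA

/-! Strong pronormality for quaternionic unitary groups of `2`-power degree. -/

set_option autoImplicit false
set_option linter.unusedSectionVars false
set_option linter.unusedSimpArgs false
set_option linter.unnecessarySeqFocus false
set_option linter.style.haveILetI false

namespace Cfsg.Agent.H29.Pn

open Quaternion Matrix Cfsg.Agent.H17 Cfsg.Agent.H13.Pn

variable {F : Type*} [Field F] [Finite F] {ι : Type} [Fintype ι] [DecidableEq ι]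
  {Q : Subgroup (unitary ℍ[F])} {S : Subgroup (unitary (Matrix ι ι ℍ[F]))}

/-- Monomial matrices. -/
def monM (x : W ι (unitary ℍ[F])) : Matrix ι ι ℍ[F] := Matrix.of fun i j => if i = x.right j then (x.left i).1 else 0

theorem monM_mul (x y : W ι (unitary ℍ[F])) : monM (x * y) = monM x * monM y := by
  ext1 i j
  rw [mul_apply, Finset.sum_eq_single (y.right j) (fun k _ hk => by simp [monM, hk]) (by simp)]
  by_cases h : i = x.right (y.right j)
  · subst h; simp [monM, mul_l]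
  · simp [monM, h]

theorem monM_one : monM (1 : W ι (unitary ℍ[F])) = 1 := by
  ext1 i j
  by_cases h : i = j <;> simp [monM, one_apply, h]

theorem monM_star (x : W ι (unitary ℍ[F])) : star (monM x) = monM x⁻¹ := by
  ext1 i j
  by_cases h : j = x.right i
  · subst h; simp [monM, star_apply, inv_l, cinv]
  · have : ¬ i = x.right⁻¹ j := fun e => h (by simp [e])
    rw [star_apply, monM, monM, of_apply, of_apply, if_neg h, SemidirectProduct.inv_right, if_neg this, star_zero]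

/-- Monomial unitary matrices. -/
def mon : W ι (unitary ℍ[F]) →* unitary (Matrix ι ι ℍ[F]) where
  toFun x := ⟨monM x, by rw [monM_star, ← monM_mul, inv_mul_cancel, monM_one],
    by rw [monM_star, ← monM_mul, mul_inv_cancel, monM_one]⟩
  map_one' := Subtype.ext monM_one
  map_mul' x y := Subtype.ext (monM_mul x y)

theorem mon_coe (x : W ι (unitary ℍ[F])) : (mon x).1 = monM x := rfl

theorem mon_inj : Function.Injective (mon : W ι (unitary ℍ[F]) → _) := (injective_iff_map_eq_one _).2 fun x h => by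
  have h1 : ∀ i j, monM x i j = (1 : Matrix ι ι ℍ[F]) i j := fun i j => by rw [← mon_coe, h]; rfl
  have h2 : ∀ j, x.right j = j := fun j => by_contra fun e => by
    have := h1 (x.right j) j
    simp only [monM, of_apply, if_true, one_apply_ne e] at this
    simpa [this] using ms (x.left (x.right j))
  refine SemidirectProduct.ext (funext fun i => Subtype.ext ?_) (Equiv.ext h2)
  simpa [monM, h2] using h1 i i

theorem mon_sg (i : ι) (a : unitary ℍ[F]) : mon (sg i a) = ee i a := Subtype.ext (by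
  ext1 j k
  by_cases h : j = k <;> simp [mon_coe, monM, sg_r, sg_l, ee, dg_coe, h])

theorem exists_mon (h2 : (2 : F) ≠ 0) {g : unitary (Matrix ι ι ℍ[F])} (hg : g ∈ (fr h2).M) : ∃ x, mon x = g := by
  choose σ hσ using hg
  have hi : Function.Injective σ := fun i j e => (fr h2).inj (cj_inj g (by rw [hσ, hσ, e]))
  obtain ⟨τ, rfl⟩ : ∃ τ : Equiv.Perm ι, ⇑τ = σ := ⟨Equiv.ofBijective σ (Finite.injective_iff_bijective.1 hi), rfl⟩
  have k : ∀ i j, i ≠ τ j → g.1 i j = 0 := fun i j h => by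
    have e := cj_eq_iff.1 (hσ j)
    simpa [pi, h] using congrFun (congrFun e i) j
  refine ⟨⟨fun i => ⟨g.1 i (τ⁻¹ i), ?_, ?_⟩, τ⟩, Subtype.ext ?_⟩
  · have := congrFun (congrFun (sm g) (τ⁻¹ i)) (τ⁻¹ i)
    rwa [mul_apply, Finset.sum_eq_single i (fun l _ hl => by rw [k l _ (by simpa), mul_zero]) (by simp),
      one_apply_eq] at this
  · have := congrFun (congrFun (ms g) i) i
    rwa [mul_apply, Finset.sum_eq_single (τ⁻¹ i) (fun l _ hl => by
      rw [k i l (fun e => hl (by simp [e])), zero_mul]) (by simp), one_apply_eq] at this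
  · ext1 i j
    rw [mon_coe, monM, of_apply]
    by_cases h : i = τ j
    · subst h; simp
    · simp [h, k i j h]

theorem sg_mem_en {U : Type*} [Group U] {N : Subgroup U} {i : ι} {a : U} (ha : a ∈ N) : sg i a ∈ En ι N := fun j => by
  rw [sg_l]
  by_cases h : j = i
  · subst h; simpa using ha
  · simp [Pi.mulSingle_eq_of_ne h]

theorem isPGroup_bs {U : Type*} [Group U] [Finite U] {Q : Subgroup U} (h : IsPGroup 2 Q) :
    IsPGroup 2 (Bs fun _ : ι => Q) := by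
  obtain ⟨n, hn⟩ := IsPGroup.iff_card.1 h
  rintro ⟨x, h1, h2⟩
  refine ⟨n, Subtype.ext ?_⟩
  have e : x = SemidirectProduct.inl x.left := SemidirectProduct.ext rfl h1
  show x ^ 2 ^ n = 1
  rw [e, ← map_pow, ← map_one SemidirectProduct.inl]
  congr 1
  exact funext fun i => congrArg Subtype.val (hn ▸ pow_card_eq_one' : (⟨_, h2 i⟩ : Q) ^ 2 ^ n = 1)

theorem syl_le_M (h2 : (2 : F) ≠ 0) (hS : IsPGroup 2 S) {x : unitary ℍ[F]} (hx : x.1 * x.1 = -1) (hK : ∀ k, ee k x ∈ S) :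
    Subgroup.normalizer (S : Set (unitary (Matrix ι ι ℍ[F]))) ≤ (fr h2).M := by
  have k1 : ∀ n, (∀ k, n * ee k x * n⁻¹ ∈ (fr h2).M) → n ∈ (fr (ι := ι) h2).M := fun n h k =>
    (fr h2).root h2 (((fr h2).pt k).conj n) ((ee_rt k hx).conj n) (h k)
  have k2 : ∀ k, ee k x ∈ (fr (ι := ι) h2).M := fun k l => by
    by_cases e : l = k
    · exact ⟨k, e ▸ LL_cj_self (ee_LL _ x)⟩
    · exact ⟨l, LL_cj (ee_LL k x) ((fr h2).orth _ _ e) ((fr h2).orth _ _ (Ne.symm e))⟩
  have k3 : S ≤ (fr h2).M := by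
    by_contra hn
    haveI := hS.isNilpotent
    obtain ⟨n, h1, h3⟩ := SetLike.exists_of_lt (normalizerCondition_of_isNilpotent ((fr h2).M.subgroupOf S)
      (lt_top_iff_ne_top.2 fun e => hn (Subgroup.subgroupOf_eq_top.1 e)))
    exact h3 (k1 n fun k => (Subgroup.mem_normalizer_iff.1 h1 ⟨_, hK k⟩).1 (k2 k))
  exact fun n hn => k1 n fun k => k3 ((Subgroup.mem_normalizer_iff.1 hn _).1 (hK k))

theorem pp_all {U : Type*} [Group U] [Finite U] {Q : Subgroup U} (hQ : H18.SylIn 2 Q ⊤) (h : PPat Q) (L : Subgroup U)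
    (hL : Q ≤ L) (n : U) (hn : n ∈ Subgroup.normalizer (Q : Set U)) : n ∈ L ⊔ cjs L n ∨ cjs L n = L := by
  obtain ⟨a, b, h1, h2, e⟩ := exists_odd_part n
  have k0 := hL (mem_of_pEl_normalizer hQ trivial h2 (pow_mem hn b))
  have k : cjs L n = cjs L (n ^ a) := by rw [e, cjs_mul, cjs_eq_of_mem k0, ← e]
  rw [k]
  exact (h.2 L hL _ (pow_mem hn a) h1).imp_left fun k => e ▸ mul_mem (by rwa [← e]) (Subgroup.mem_sup_left k0)

theorem qw_norm (h2 : (2 : F) ≠ 0) (h8 : ∀ y : unitary ℍ[F], y ∈ Q ↔ y.1 ∈ ({1, -1, q4 0 1 0 0, -q4 0 1 0 0, q4 0 0 1 0,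
    -q4 0 0 1 0, q4 0 0 0 1, -q4 0 0 0 1} : Set ℍ[F])) :
    qw h2 ∈ Subgroup.normalizer (Q : Set (unitary ℍ[F])) ∧ qw h2 ∉ Q := by
  have e1 : (qw h2).1 * q4 0 1 0 0 * star (qw h2).1 = q4 0 0 1 0 := by ext <;> simp [qw] <;> field_simp <;> ring
  have e2 : (qw h2).1 * q4 0 0 1 0 * star (qw h2).1 = q4 0 0 0 1 := by ext <;> simp [qw] <;> field_simp <;> ring
  have e3 : (qw h2).1 * q4 0 0 0 1 * star (qw h2).1 = q4 0 1 0 0 := by ext <;> simp [qw] <;> field_simp <;> ring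
  refine ⟨H18.mem_normalizer_of_conj_mem fun y hy => (h8 _).2 ?_, fun h => ?_⟩
  · rw [cj_coe, cj_def]
    rcases (h8 y).1 hy with e | e | e | e | e | e | e | e <;> rw [e] <;> simp [e1, e2, e3, ms]
  · rcases (h8 _).1 h with e | e | e | e | e | e | e | e
    iterate 2 exact h2 (by simpa [qw] using congrArg QuaternionAlgebra.imI e)
    all_goals exact h2 (by simpa [qw] using congrArg QuaternionAlgebra.re e)

theorem pp_unitary (h2 : (2 : F) ≠ 0) {k : ℕ} (hk : Fintype.card ι = 2 ^ k)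
    {u : Subgroup.normalizer (Q : Set (unitary ℍ[F])) →* Multiplicative (ZMod 3)} (hQ : H18.SylIn 2 Q ⊤)
    (hu : ∀ n, u n = 1 ↔ n.1 ∈ Q) (hU : PP (unitary ℍ[F])) (hx : ∃ x ∈ Q, x.1 * x.1 = -1)
    (hc : (∀ n, u n = 1) ∨ (¬ IsSquare (2 : F) ∧ ∀ y : unitary ℍ[F], y ∈ Q ↔ y.1 ∈ ({1, -1, q4 0 1 0 0, -q4 0 1 0 0,
      q4 0 0 1 0, -q4 0 0 1 0, q4 0 0 0 1, -q4 0 0 0 1} : Set ℍ[F]))) : PP (unitary (Matrix ι ι ℍ[F])) := by
  obtain ⟨S, hS, hB⟩ := H18.exists_sylIn_ge ((isPGroup_bs (ι := ι) hQ.isP).map mon) le_top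
  obtain ⟨x, xQ, hx⟩ := hx
  have eS : ∀ i, ∀ y ∈ Q, ee i y ∈ S := fun i y hy => mon_sg i y ▸ hB ⟨_, sg_mem_bs hy, rfl⟩
  have hN := syl_le_M h2 hS.isP hx fun i => eS i x xQ
  have hT : H18.SylIn 2 (S.comap mon) ⊤ :=
    hS.comap_of_injective mon mon_inj fun g hg => exists_mon h2 (hN (Subgroup.le_normalizer hg))
  have hB' := Subgroup.map_le_iff_le_comap.1 hB
  have lift : ∀ g ∈ Subgroup.normalizer (S : Set (unitary (Matrix ι ι ℍ[F]))),
      ∃ g' ∈ Subgroup.normalizer ((S.comap mon : Subgroup (W ι (unitary ℍ[F]))) : Set (W ι (unitary ℍ[F]))), mon g' = g := fun g hg => by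
    obtain ⟨g', rfl⟩ := exists_mon h2 (hN hg)
    refine ⟨g', H18.mem_normalizer_of_conj_mem fun y hy => ?_, rfl⟩
    rw [Subgroup.mem_comap, map_mul, map_mul, map_inv]
    exact (Subgroup.mem_normalizer_iff.1 hg _).1 hy
  refine PP.of_one hS ⟨fun a ha b hb => ?_, fun H hH g hg ho => ?_⟩
  · obtain ⟨a, ha', rfl⟩ := lift a ha
    obtain ⟨b, hb', rfl⟩ := lift b hb
    simpa using d1 hQ hu hk hT hB' ha' hb'
  obtain ⟨g, hg', rfl⟩ := lift g hg
  rcases hc with hc | ⟨hsq, h8⟩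
  · exact Or.inl (Subgroup.mem_sup_left (hH (d2_triv hQ hu hk hT hB' hc hg')))
  by_cases hG : ∃ x : En ι (Subgroup.normalizer (Q : Set (unitary ℍ[F]))), mon x.1 ∈ H ⊔ cjs H (mon g) ∧ chi u x ≠ 1
  · obtain ⟨x, h1, h3⟩ := hG
    exact Or.inl (d2 hQ hu hk hT hB' (K := (H ⊔ cjs H (mon g)).comap mon)
      (Subgroup.comap_mono (hH.trans le_sup_left)) h1 h3 hg')
  push Not at hG
  obtain ⟨w1, w2⟩ := qw_norm h2 h8
  have hkQ : qk F ∈ Q := (h8 _).2 (by simp [qk])
  have hM : H ⊔ cjs H (mon g) ≤ (fr h2).M := by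
    refine le_M (h2 := h2) hsq hQ ((h8 _).2 (by simp [qi])) ((h8 _).2 (by simp [qj])) hkQ
      (fun i y hy => Subgroup.mem_sup_left (hH (eS i y hy))) ?_
    rintro ⟨p, q, h, n, hn, e⟩
    have k1 := Subgroup.le_normalizer hkQ
    obtain ⟨a, ha⟩ : ∃ a : Subgroup.normalizer (Q : Set (unitary ℍ[F])), a = ⟨_, w1⟩ := ⟨_, rfl⟩
    obtain ⟨b, hb⟩ : ∃ b : Subgroup.normalizer (Q : Set (unitary ℍ[F])),
      b = ⟨n, hn⟩⁻¹ * (⟨_, k1⟩ * a * ⟨_, k1⟩⁻¹) * ⟨n, hn⟩ := ⟨_, rfl⟩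
    have k2 := hG (⟨sg p a.1, sg_mem_en a.2⟩ * ⟨sg q b.1, sg_mem_en b.2⟩) (by
      rw [Subgroup.coe_mul, map_mul, mon_sg, mon_sg, hb, ha]; exact e)
    rw [map_mul, chi_sg, chi_sg, hb] at k2
    simp only [map_mul, map_inv, mul_inv_cancel_comm, inv_mul_cancel_comm] at k2
    exact w2 (by simpa [ha] using (hu a).1 (three_eq_one (k := 1) (by rw [pow_one, pow_two, k2])))
  have e1 : (H.comap mon).map mon = H :=
    Subgroup.map_comap_eq_self fun y hy => exists_mon h2 (hM (Subgroup.mem_sup_left hy))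
  have e2 : (cjs (H.comap mon) g).map mon = cjs H (mon g) := by
    conv_rhs => rw [← e1]
    simp only [cjs, Subgroup.map_map]; congr 1; ext1; simp
  refine Or.inr ?_
  rw [← e2, d3 hQ hu hk hT hB' (pp_all hQ (hU Q hQ)) (Subgroup.comap_mono hH) hg'
    (by rwa [orderOf_injective mon mon_inj] at ho) fun i n hn => ?_, e1]
  have := Subgroup.mem_map_of_mem mon hn
  rw [Subgroup.map_sup, e1, e2] at this
  exact (chi_sg _ _ _).symm.trans (hG ⟨sg i n.1, sg_mem_en n.2⟩ this)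

end Cfsg.Agent.H29.Pn
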