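import Mathlib
import Cfsg.Agent.H10.AutPSL3
import Cfsg.Agent.H13.SzAut
import Cfsg.Agent.L0.PSL2

/-!
The groups `PSL₂(3^(2n+1))`: elements of order three are not real, automorphisms of `2`-power order.
-/

set_option autoImplicit false
namespace Cfsg.Agent.H29
open Matrix Subgroup Cfsg.Agent.L0 Cfsg.Agent.H10

variable {F : Type*} [Field F]

theorem psl_r3 (h3 : (3 : F) = 0) (hs : ¬ IsSquare (-1 : F)) {x g : P2 F} (hx : x ^ 3 = 1) (h : g * x * g⁻¹ = x⁻¹) :
    x = 1 := by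
  obtain ⟨A, rfl, h1⟩ : ∃ A, pj A = x ∧ A * A = A⁻¹ := by
    obtain ⟨A, rfl⟩ := pj_surjective x
    refine ⟨A ^ 4, by rw [map_pow, pow_succ, hx, one_mul], ?_⟩
    rw [← mul_eq_one_iff_eq_inv, ← pow_three', ← pow_mul, mul_comm, pow_mul]
    rcases pj_eq_one_iff.1 ((map_pow _ _ _).trans hx) with e | e <;> simp [e, Even.neg_one_pow (by decide : Even 4)]
  obtain ⟨B, rfl⟩ := pj_surjective g
  rw [mul_inv_eq_iff_eq_mul, ← map_inv, ← map_mul, ← map_mul, pj_eq_iff] at h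
  have hA := s2_det A
  have hB := s2_det B
  simp only [Matrix.SpecialLinearGroup.ext_iff, Fin.forall_fin_two, Matrix.SpecialLinearGroup.coe_mul, mul_apply,
    Matrix.SpecialLinearGroup.coe_inv, Matrix.SpecialLinearGroup.coe_neg, Matrix.neg_apply, adjugate_fin_two,
    Fin.sum_univ_two] at h h1
  simp at h h1
  by_cases hb : A.1 0 1 = 0
  · by_cases hc : A.1 1 0 = 0
    · have h4 : A.1 0 0 = 1 := sub_eq_zero.1 (pow_eq_zero_iff three_ne_zero |>.1 (by grind))
      exact pj_eq_one_iff.2 (.inl (Subtype.ext (m2_ext h4 hb hc (show _ = (1 : F) by grind))))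
    · exact absurd ⟨B.1 0 0, by grind⟩ hs
  · exact absurd ⟨((A.1 0 0 - 1) * B.1 0 1 + A.1 0 1 * B.1 1 1) / A.1 0 1, by field_simp; grind⟩ hs

theorem not_isSquare_of_card {n : ℕ} (hF : Nat.card F = 3 ^ (2 * n + 1)) : (3 : F) = 0 ∧ ¬ IsSquare (-1 : F) := by
  haveI : Finite F := Nat.finite_of_card_ne_zero (by rw [hF]; positivity)
  letI := Fintype.ofFinite F
  rw [Nat.card_eq_fintype_card] at hF
  refine ⟨pow_eq_zero_iff (n := 2 * n + 1) (by omega) |>.1 (by simpa [hF] using FiniteField.cast_card_eq_zero F), ?_⟩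
  rw [FiniteField.isSquare_neg_one_iff, hF, pow_succ, pow_mul]
  simp [Nat.mul_mod, Nat.pow_mod]

theorem psl_aut {n k : ℕ} (hF : Nat.card F = 3 ^ (2 * n + 1)) {θ : MulAut (P2 F)} (h : θ ^ 2 ^ k = 1) :
    ∃ s, θ = MulAut.conj s ∨ ∃ x, x ≠ 1 ∧ x ^ 3 = 1 ∧ s * θ x * s⁻¹ = x⁻¹ := by
  haveI : Finite F := Nat.finite_of_card_ne_zero (by rw [hF]; positivity)
  obtain ⟨h3, hs⟩ := not_isSquare_of_card hF
  haveI : CharP F 3 := (CharP.charP_iff_prime_eq_zero Nat.prime_three).2 h3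
  obtain ⟨π, h1, -⟩ := exists_autType_two (F := F)
  obtain ⟨g, rfl⟩ : θ ∈ (pDiag : GL (Fin 2) F →* _).range := h1.le (orderOf_eq_one_iff.1 (Nat.eq_one_of_dvd_coprimes
    (Nat.Coprime.pow_left k (Odd.coprime_two_left ⟨n, rfl⟩)) (orderOf_dvd_of_pow_eq_one (by rw [← map_pow, h, map_one]))
    (H13.card_ringAut_of_card Nat.prime_three hF ▸ orderOf_dvd_natCard _)))
  have key : ∀ g : GL (Fin 2) F, IsSquare (GeneralLinearGroup.det g : F) → ∃ s, MulAut.conj s = pDiag g := fun g ⟨c, hc⟩ =>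
    (pDiag_mem_inn_iff (by simp)).2 ⟨Units.mk0 c (by rintro rfl; exact Units.ne_zero _ (hc.trans (mul_zero _))), Units.ext (by simp [← hc, sq])⟩
  by_cases h2 : IsSquare (GeneralLinearGroup.det g : F)
  · exact (key g h2).imp fun s e => .inl e.symm
  obtain ⟨s, e⟩ := key (dgl 0 (-1) * g⁻¹) (by
    classical
    letI := Fintype.ofFinite F
    rw [← quadraticChar_neg_one_iff_not_isSquare] at hs h2
    rw [← quadraticChar_one_iff_isSquare (Units.ne_zero _), map_mul, det_dgl, map_inv, Units.val_mul, map_mul,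
      Units.val_inv_eq_inv_val, ← MulChar.inv_apply', (quadraticChar_isQuadratic F).inv, h2, Units.val_neg, Units.val_one, hs]
    rfl)
  refine ⟨s, .inr ⟨pj (uu 1), fun e => ?_, ?_, ?_⟩⟩
  · simp [pj_eq_one_iff', IsScal] at e
  · rw [← map_pow, uu_pow, Nat.cast_ofNat, h3, zero_mul, uu_zero, map_one]
  · rw [← MulAut.conj_apply, e, ← MulAut.mul_apply, ← map_mul, inv_mul_cancel_right, ← map_inv, ← uu_neg]
    refine congrArg pj (Subtype.ext ((slDiag_val _ _).trans ?_))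
    rw [← map_inv, dgl_val, dgl_val]
    ext i j
    fin_cases i <;> fin_cases j <;> simp

end Cfsg.Agent.H29
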