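import Mathlib
import Cfsg.Agent.H29.Spec2
import Cfsg.Agent.L0.PSL2

/-! Solvable groups whose element orders are the divisors of two given numbers. -/

set_option autoImplicit false

namespace Cfsg.Agent.H29

open Subgroup Cfsg.Agent.L0

theorem mem_zpowers_of_cyc {K : Type*} [CommGroup K] [Finite K] [IsCyclic K] {h k : K} (hd : orderOf h ∣ orderOf k) :
    h ∈ zpowers k := by
  have e : zpowers k = (powMonoidHom (orderOf k) : K →* K).ker := by
    refine eq_of_le_of_card_ge (zpowers_le.2 (pow_orderOf_eq_one k)) ?_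
    rw [IsCyclic.card_powMonoidHom_ker, Nat.card_zpowers]
    exact Nat.gcd_le_right _ (orderOf_pos k)
  rw [e]
  exact orderOf_dvd_iff_pow_eq_one.1 hd

theorem exists_cusp_vec {K R : Type*} [CommGroup K] [Finite K] [IsCyclic K] [AddCommGroup R] (c : R) (S : Finset ℕ) :
    (∀ r ∈ S, r.Prime ∧ r ∣ Nat.card K) → ∃ v : Fn K R, v 1 = c ∧ (∀ x, v x ≠ 0 → x ^ ∏ r ∈ S, r = 1) ∧
      ∀ k : K, (∃ r ∈ S, r ∣ orderOf k) → Aff.nrm k v = 0 := by
  classical
  induction S using Finset.induction_on with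
  | empty => exact fun _ => ⟨fun x => if x = 1 then c else 0, if_pos rfl,
      fun x hx => by simpa using by_contra fun e => hx (if_neg e), by simp⟩
  | insert r S hr ih =>
    intro hS
    obtain ⟨v, h1, h2, h3⟩ := ih fun s hs => hS s (Finset.mem_insert_of_mem hs)
    obtain ⟨r1, r2⟩ := hS r (Finset.mem_insert_self _ _)
    have := Fact.mk r1
    obtain ⟨h, hh⟩ := exists_prime_orderOf_dvd_card' r r2
    have e0 : v h = 0 := by_contra fun e => by
      obtain ⟨s, hs, e⟩ := (r1.prime.dvd_finsetProd_iff _).1 (hh ▸ orderOf_dvd_of_pow_eq_one (h2 h e))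
      exact hr ((Nat.prime_dvd_prime_iff_eq r1 (hS s (Finset.mem_insert_of_mem hs)).1).1 e ▸ hs)
    refine ⟨v - h • v, ?_, fun x hx => ?_, fun k hk => ?_⟩
    · change v 1 - v (1 * h) = c
      rw [one_mul, e0, h1, sub_zero]
    · rw [Finset.prod_insert hr, mul_comm, pow_mul]
      by_cases e : v x = 0
      · have e2 := h2 (x * h) fun e2 => hx (show v x - v (x * h) = 0 by rw [e, e2, sub_zero])
        rw [mul_pow, mul_eq_one_iff_eq_inv] at e2
        rw [e2, inv_pow, ← pow_mul, mul_comm, pow_mul, ← hh, pow_orderOf_eq_one, one_pow, inv_one]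
      · rw [h2 x e, one_pow]
    · have e : Aff.nrm k (v - h • v) = Aff.nrm k v - h • Aff.nrm k v := by
        simp only [Aff.nrm, smul_sub, Finset.sum_sub_distrib, Finset.smul_sum, ← mul_smul, mul_comm]
      obtain ⟨s, hs, hk⟩ := hk
      rcases Finset.mem_insert.1 hs with rfl | hs
      · obtain ⟨n, rfl⟩ := mem_powers_iff_mem_zpowers.2 (mem_zpowers_of_cyc (hh ▸ hk))
        rw [e, Aff.pow_smul_nrm, sub_self]
      · rw [e, h3 k ⟨s, hs, hk⟩, smul_zero, sub_zero]

theorem exists_spec_two {a b : ℕ} (ha : a ≠ 0) (hb : b ≠ 0) : ∃ (H : Type) (_ : Group H) (_ : Finite H),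
    Group.IsSolvable H ∧ spec H = {n | n ∣ a ∨ n ∣ b} := by
  have : NeZero a := ⟨ha⟩
  have : NeZero b := ⟨hb⟩
  let K := Multiplicative (ZMod b)
  have hK : Nat.card K = b := Nat.card_zmod b
  obtain ⟨v, h1, -, h3⟩ := exists_cusp_vec (K := K) (1 : ZMod a) b.primeFactors fun r hr =>
    ⟨Nat.prime_of_mem_primeFactors hr, (Nat.dvd_of_mem_primeFactors hr).trans hK.symm.dvd⟩
  have := Aff.solvable (K := K) (V := Fn K (ZMod a))
  refine ⟨Aff.sub _ (cusp_inv (K := K) (V := Fn K (ZMod a)) (· ≠ 1)), inferInstance, inferInstance, inferInstance,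
    Set.ext fun n => ⟨fun h => ?_, ?_⟩⟩
  · obtain ⟨k, w, hw, rfl⟩ := (Aff.mem_spec_sub _ _).1 h
    by_cases hk : k = 1
    · exact .inl (by rw [hk, orderOf_one, one_mul]; exact addOrderOf_dvd_of_nsmul_eq_zero (Fn.nsmul_zmod a _))
    · exact .inr (by rw [hw k (mt orderOf_eq_one_iff.1 hk), addOrderOf_zero, mul_one]; exact (_root_.orderOf_dvd_natCard k).trans hK.dvd)
  · rintro (h | h)
    · refine mem_spec_of_dvd ((Aff.mem_spec_sub _ _).2 ⟨1, v, fun k hk => h3 k ?_, rfl⟩) (h.trans ?_)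
      · obtain ⟨r, r1, r2⟩ := Nat.exists_prime_and_dvd hk
        exact ⟨r, Nat.mem_primeFactors.2 ⟨r1, r2.trans ((_root_.orderOf_dvd_natCard k).trans hK.dvd), hb⟩, r2⟩
      · rw [orderOf_one, one_mul, Aff.nrm_one, ← ZMod.natCast_eq_zero_iff, ← nsmul_one, ← h1]
        exact congrFun (addOrderOf_nsmul_eq_zero v) 1
    · obtain ⟨k, hk⟩ := (spec_cyclic (G := K)).ge (h.trans hK.symm.dvd)
      exact (Aff.mem_spec_sub _ _).2 ⟨k, 0, zero_mem _, by simp [Aff.nrm, hk]⟩

theorem spec_psl2 {F : Type*} [Field F] [Fintype F] (p : ℕ) [hp : Fact p.Prime] [CharP F p] : spec (P2 F) =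
    {n | n ∣ p ∨ n ∣ (Fintype.card F - 1) / Nat.gcd 2 (Fintype.card F - 1) ∨
      n ∣ (Fintype.card F + 1) / Nat.gcd 2 (Fintype.card F - 1)} := by
  classical
  have hq := two_le_card (F := F)
  refine Set.ext fun n => ⟨fun ⟨x, hx⟩ => hx ▸ orderOf_p2_dvd p x, ?_⟩
  rintro (h | h | h)
  · let g : S2 F := ⟨!![1, 1; 0, 1], by simp⟩
    have h1 : g ^ p = 1 := by
      have : ∀ k : ℕ, (g ^ k).1 = !![1, (k : F); 0, 1] := fun k => by
        induction k with
        | zero => simp [Matrix.one_fin_two]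
        | succ k ih => rw [pow_succ, Matrix.SpecialLinearGroup.coe_mul, ih]; simp [g, add_comm]
      exact Subtype.ext (by rw [this]; simp [Matrix.one_fin_two])
    refine mem_spec_of_dvd ⟨pj g, orderOf_eq_prime (by rw [← map_pow, h1, map_one]) fun e => ?_⟩ h
    rcases pj_eq_one_iff.1 e with e | e <;> simpa [g] using congrArg (fun x : S2 F => x.1 0 1) e
  · obtain ⟨a, ha⟩ := exists_orderOf_ds (F := F)
    exact mem_spec_of_dvd ⟨pj (ds a), by rw [orderOf_pj_eq_div (by rw [ha]), ha]⟩ h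
  · obtain ⟨a, ha⟩ := exists_orderOf_elS (F := F)
    exact mem_spec_of_dvd ⟨pj (elS F a), by rw [orderOf_pj_eq_div (by rw [ha]; omega), ha]⟩ h

end Cfsg.Agent.H29
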