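import Mathlib
import Cfsg.Agent.H29.G24
import Cfsg.Agent.H29.Cl4
import Cfsg.Agent.S0278

/-! The twelve-dimensional module of `SU₃(4)` in characteristic five. -/

set_option autoImplicit false
set_option linter.unusedSectionVars false

namespace Cfsg.Agent.H29

open Matrix Subgroup

section Cusp

variable {K V : Type*} [Group K] [AddCommGroup V] [DistribMulAction K V] [Finite K]

theorem nrm_congr {a b : K} (h : zpowers a = zpowers b) (v : V) : Aff.nrm a v = Aff.nrm b v := by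
  have key : ∀ a : K, Aff.nrm a v = ∑ᶠ y ∈ zpowers a, y • v := fun a => by
    rw [Aff.nrm, ← finsum_mem_coe_finset]
    refine finsum_mem_eq_of_bijOn (a ^ ·) ⟨fun i _ => npow_mem_zpowers a i, Finset.coe_range _ ▸ pow_injOn_Iio_orderOf,
      fun y hy => ?_⟩ fun _ _ => rfl
    classical
    simpa using mem_zpowers_iff_mem_range_orderOf.1 hy
  rw [key, key, h]

theorem mem_cusp_of_syl {p : ℕ} (hp : p.Prime) (h2 : ¬ p ^ 2 ∣ Nat.card K) {u : K} (hu : orderOf u = p) {v : V}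
    (h : ∀ k : K, Aff.nrm u (k • v) = 0) : v ∈ cusp K V (· = p) := fun w hw => by
  haveI := Fact.mk hp
  have key : ∀ x : K, orderOf x = p → Nat.card (zpowers x) = p ^ (Nat.card K).factorization p := fun x hx => by
    rw [Nat.card_zpowers, hx, show (Nat.card K).factorization p = 1 from le_antisymm (Nat.lt_succ_iff.1 (not_le.1 fun e =>
      h2 ((hp.pow_dvd_iff_le_factorization Nat.card_pos.ne').2 e)))
      ((hp.dvd_iff_one_le_factorization Nat.card_pos.ne').1 (hx ▸ orderOf_dvd_natCard x)), pow_one]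
  obtain ⟨g, hg⟩ := MulAction.exists_smul_eq K (Sylow.ofCard _ (key u hu)) (Sylow.ofCard _ (key w hw))
  have e : zpowers w = zpowers (g * u * g⁻¹) :=
    (congrArg Sylow.toSubgroup hg).symm.trans (MonoidHom.map_zpowers _ _)
  have := congrArg (g • ·) (h g⁻¹)
  rw [nrm_congr e, Aff.nrm, show orderOf (g * u * g⁻¹) = orderOf u from (MulAut.conj g).orderOf_eq u]
  simpa only [Aff.nrm, Finset.smul_sum, smul_zero, conj_pow, mul_smul] using this

end Cusp

/-- the field with sixteen elements -/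
def G16 := Fin 16

namespace G16

instance : DecidableEq G16 := inferInstanceAs (DecidableEq (Fin 16))
instance : Fintype G16 := inferInstanceAs (Fintype (Fin 16))
instance : Zero G16 := ⟨Fin.ofNat 16 0⟩
instance : One G16 := ⟨Fin.ofNat 16 1⟩
instance : Add G16 := ⟨fun a b => Fin.ofNat 16 (Nat.xor a.val b.val)⟩
instance : Neg G16 := ⟨id⟩
instance : Mul G16 := ⟨fun a b => Fin.ofNat 16 (Nat.shiftRight
  116196760129267793630862849262464326346044543732748708940920453221664288556434379745879494961270582141731748813355742142288220638766218855867759359510984593843506004200114943278699875244065120512813025380665946106619127097398772031257643617143689515450995722003729973585221105779229319991106539050771048038400 (Nat.add (Nat.mul 64 a.val) (Nat.mul 4 b.val)))⟩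
instance : Inv G16 := ⟨fun a => Fin.ofNat 16 (Nat.shiftRight 9460475325918865680 (Nat.mul 4 a.val))⟩
instance (p : G16 → Prop) [h : DecidablePred p] : Decidable (∀ a, p a) := @Nat.decidableForallFin 16 p h

instance : Field G16 := Field.ofMinimalAxioms G16 (by decide +kernel) (by decide +kernel) (by decide +kernel)
  (by decide +kernel) (by decide +kernel) (by decide +kernel) (by decide +kernel) (by decide +kernel)
  (by decide +kernel) ⟨0, 1, by decide⟩

def cj (a : G16) : G16 := Fin.ofNat 16 (Nat.shiftRight 9924487649903846160 (Nat.mul 4 a.val))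

def lg (a : G16) : ZMod 5 := Fin.ofNat 5 (Nat.mod (Nat.shiftRight 2391732747295146240 (Nat.mul 4 a.val)) 16)

theorem cj_eq : ∀ a : G16, cj a = a ^ 4 := by decide +kernel

theorem lg_mul : ∀ a : G16, a ≠ 0 → ∀ b : G16, b ≠ 0 → lg (a * b) = lg a + lg b := by decide +kernel

theorem lg_inv : ∀ a : G16, lg a⁻¹ = -lg a ∧ lg (a ^ 4) = -lg a := by decide +kernel

abbrev T3 := G16 × G16 × G16

def hT (x a : T3) : G16 := x.1 * cj a.1 + x.2.1 * cj a.2.1 + x.2.2 * cj a.2.2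

def rt (x a : T3) : G16 := if a.1 = 0 then if a.2.1 = 0 then x.2.2 * a.2.2⁻¹ else x.2.1 * a.2.1⁻¹ else x.1 * a.1⁻¹

def lT (x a : T3) : ZMod 5 := lg (if hT x a = 0 then rt x a else hT x a)

def dt (x y : T3) : G16 := x.1 * y.1 + x.2.1 * y.2.1 + x.2.2 * y.2.2

def act (M : T3 × T3 × T3) (x : T3) : T3 := (dt M.1 x, dt M.2.1 x, dt M.2.2 x)

def tv (x : ℕ × ℕ × ℕ) : T3 := (Fin.ofNat 16 x.1, Fin.ofNat 16 x.2.1, Fin.ofNat 16 x.2.2)

def us : List (T3 × T3 × T3) := List.map (fun M => (tv M.1, tv M.2.1, tv M.2.2)) [((1, 0, 0), (0, 1, 0), (0, 0, 1)), ((3, 8, 3), (12, 10, 10), (3, 12, 7)), ((10, 3, 3), (11, 3, 12), (3, 8,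
  2)), ((15, 5, 9), (14, 5, 1), (9, 15, 4)), ((3, 3, 12), (11, 1, 2), (12, 13, 11)), ((5, 9, 10), (4, 6, 10),
  (10, 12, 8)), ((4, 10, 9), (15, 14, 6), (9, 4, 1)), ((5, 8, 14), (12, 9, 5), (14, 6, 1)), ((4, 5, 12), (14, 6,
  10), (12, 12, 15)), ((2, 13, 10), (2, 1, 11), (10, 3, 13)), ((8, 9, 14), (4, 4, 8), (14, 1, 5)), ((12, 13, 2),
  (2, 2, 15), (2, 10, 3)), ((2, 10, 2), (15, 12, 10), (2, 12, 7))]

def pts : List T3 := List.map tv [(0, 1, 1), (0, 1, 8), (0, 1, 10), (0, 1, 12), (0, 1, 15), (1, 0, 1), (1, 0, 8), (1, 0, 10), (1, 0, 12), (1,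
  0, 15), (1, 1, 0), (1, 2, 4), (1, 2, 5), (1, 2, 6), (1, 2, 9), (1, 2, 14), (1, 3, 4), (1, 3, 5), (1, 3, 6),
  (1, 3, 9), (1, 3, 14), (1, 4, 2), (1, 4, 3), (1, 4, 7), (1, 4, 11), (1, 4, 13), (1, 5, 2), (1, 5, 3), (1, 5,
  7), (1, 5, 11), (1, 5, 13), (1, 6, 2), (1, 6, 3), (1, 6, 7), (1, 6, 11), (1, 6, 13), (1, 7, 4), (1, 7, 5), (1,
  7, 6), (1, 7, 9), (1, 7, 14), (1, 8, 0), (1, 9, 2), (1, 9, 3), (1, 9, 7), (1, 9, 11), (1, 9, 13), (1, 10, 0),
  (1, 11, 4), (1, 11, 5), (1, 11, 6), (1, 11, 9), (1, 11, 14), (1, 12, 0), (1, 13, 4), (1, 13, 5), (1, 13, 6),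
  (1, 13, 9), (1, 13, 14), (1, 14, 2), (1, 14, 3), (1, 14, 7), (1, 14, 11), (1, 14, 13), (1, 15, 0)]

def sT (x a : T3) : ZMod 5 := (us.map fun M => lT (act M x) a).sum

theorem chk1 : (pts.all fun x => pts.all fun a => decide ((hT x a = 0 → x = a) ∧
    sT x a + sT (0, 1, 1) (0, 1, 1) = sT (0, 1, 1) a + sT x (0, 1, 1))) = true := by decide +kernel

theorem chk2 : (∀ a b, hT (1, a, b) (1, a, b) = 0 → (1, a, b) ∈ pts) ∧ (∀ b, hT (0, 1, b) (0, 1, b) = 0 → (0, 1, b) ∈ pts) := by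
  decide +kernel

theorem card_eq : Fintype.card G16 = 4 ^ 2 := rfl

instance : CharP G16 2 := charP_of_card_eq_prime_pow (p := 2) (f := 4) rfl

def mk (M : T3 × T3 × T3) : Matrix (Fin 3) (Fin 3) G16 :=
  !![M.1.1, M.1.2.1, M.1.2.2; M.2.1.1, M.2.1.2.1, M.2.1.2.2; M.2.2.1, M.2.2.2.1, M.2.2.2.2]

def ug (i : ℕ) : T3 × T3 × T3 := us.getD i 0

theorem chk3 : us = (List.range 13).map ug ∧ mk (ug 0) = 1 ∧ (∀ i < 12, mk (ug (i + 1)) = mk (ug i) * mk (ug 1)) ∧
    mk (ug 12) * mk (ug 1) = 1 ∧ mk (ug 1) ≠ 1 ∧ (mk (ug 1))ᵀ * (mk (ug 1)).map cj = 1 := by decide +kernel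

abbrev V3 := Fin 3 → G16

def ft (x : V3) : T3 := (x 0, x 1, x 2)

local notation "hh" => hermForm 3 G16 4

theorem h_eq (x a : V3) : hh x a = hT (ft x) (ft a) := by simp [hermForm, hT, ft, Fin.sum_univ_three, cj_eq]

theorem ft_mk (M : T3 × T3 × T3) (x : V3) : ft (mk M *ᵥ x) = act M (ft x) := by
  simp [ft, mk, act, dt, mulVec, dotProduct, Fin.sum_univ_three]

theorem ft_inj {x y : V3} (h : ft x = ft y) : x = y := by
  simp only [ft, Prod.mk.injEq] at h
  ext i; fin_cases i; exacts [h.1, h.2.1, h.2.2]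

theorem h_smul (c d : G16) (x a : V3) : hh (c • x) (d • a) = c * d ^ 4 * hh x a := by
  simp only [hermForm, Fin.sum_univ_three, Pi.smul_apply, smul_eq_mul]; ring

/-- the element of order thirteen -/
def u0 : SU 3 G16 4 := ⟨⟨mk (ug 1), by rw [det_fin_three]; decide +kernel⟩, fun u v => by
  have e : ∀ u v : V3, hh u v = u ⬝ᵥ (iterateFrobenius G16 2 2 ∘ v) := fun _ _ => rfl
  have e2 : (mk (ug 1)).map cj = (mk (ug 1)).map (iterateFrobenius G16 2 2) := congrArg _ (funext cj_eq)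
  change hh (mk (ug 1) *ᵥ u) (mk (ug 1) *ᵥ v) = _
  rw [e, e, show iterateFrobenius G16 2 2 ∘ (mk (ug 1) *ᵥ v) = _ from funext (RingHom.map_mulVec _ _ _), ← e2,
    dotProduct_comm, dotProduct_mulVec, ← mulVec_transpose, mulVec_mulVec, chk3.2.2.2.2.2, one_mulVec, dotProduct_comm]⟩

/-- the natural action -/
def av (g : SU 3 G16 4) (x : V3) : V3 := g.1.1 *ᵥ x

theorem av_mul (g k : SU 3 G16 4) (x : V3) : av (g * k) x = av g (av k x) := (mulVec_mulVec _ _ _).symm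

theorem av_one (x : V3) : av 1 x = x := one_mulVec x

theorem av_smul (g : SU 3 G16 4) (c : G16) (x : V3) : av g (c • x) = c • av g x := mulVec_smul _ _ _

theorem u0_pow {i : ℕ} (hi : i < 13) : (u0 ^ i).1.1 = mk (ug i) := by
  induction i with
  | zero => exact chk3.2.1.symm
  | succ i ih => rw [pow_succ, chk3.2.2.1 i (by omega), ← ih (by omega)]; rfl

theorem ord_u0 : orderOf u0 = 13 :=
  haveI := Fact.mk (show Nat.Prime 13 by norm_num)
  orderOf_eq_prime (Subtype.ext (Subtype.ext (by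
    rw [pow_succ]; exact (congrArg (· * mk (ug 1)) (u0_pow (by omega))).trans chk3.2.2.2.1)))
    fun e => chk3.2.2.2.2.1 (congrArg (·.1.1) e)

/-- isotropic vectors -/
def Iso (x : V3) : Prop := x ≠ 0 ∧ hh x x = 0

theorem Iso.act {x : V3} (h : Iso x) (g : SU 3 G16 4) : Iso (av g x) :=
  ⟨fun e => h.1 (by rw [← av_one x, ← inv_mul_cancel g, av_mul, e]; exact mulVec_zero _), (g.2 x x).trans h.2⟩

theorem Iso.nz {x : V3} (h : Iso x) : ∃ c ≠ (0 : G16), ∃ y, Iso y ∧ ft y ∈ pts ∧ x = c • y := by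
  have key : ∀ c : G16, c ≠ 0 → Iso (c⁻¹ • x) ∧ x = c • c⁻¹ • x := fun c hc =>
    ⟨⟨smul_ne_zero (inv_ne_zero hc) h.1, by rw [h_smul, h.2, mul_zero]⟩, (smul_inv_smul₀ hc x).symm⟩
  by_cases h0 : x 0 = 0
  · have h1 : x 1 ≠ 0 := fun h1 => h.1 (ft_inj (by simpa [hermForm, Fin.sum_univ_three, h0, h1, ft] using h.2))
    have e : ft ((x 1)⁻¹ • x) = (0, 1, (x 1)⁻¹ * x 2) := by simp [ft, h0, h1]
    exact ⟨_, h1, _, (key _ h1).1, e ▸ chk2.2 _ (e ▸ h_eq _ _ ▸ (key _ h1).1.2), (key _ h1).2⟩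
  · have e : ft ((x 0)⁻¹ • x) = (1, (x 0)⁻¹ * x 1, (x 0)⁻¹ * x 2) := by simp [ft, h0]
    exact ⟨_, h0, _, (key _ h0).1, e ▸ chk2.1 _ _ (e ▸ h_eq _ _ ▸ (key _ h0).1.2), (key _ h0).2⟩

theorem chk1' {x a : T3} (hx : x ∈ pts) (ha : a ∈ pts) : (hT x a = 0 → x = a) ∧
    sT x a + sT (0, 1, 1) (0, 1, 1) = sT (0, 1, 1) a + sT x (0, 1, 1) :=
  of_decide_eq_true (List.all_eq_true.1 (List.all_eq_true.1 chk1 x hx) a ha)

theorem Iso.prop {x a : V3} (hx : Iso x) (ha : Iso a) (h : hh x a = 0) : ∃ l ≠ (0 : G16), x = l • a := by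
  obtain ⟨c, c0, y, -, hy, rfl⟩ := hx.nz
  obtain ⟨d, d0, b, -, hb, rfl⟩ := ha.nz
  rw [h_smul, mul_eq_zero, h_eq] at h
  obtain rfl := ft_inj ((chk1' hy hb).1 (h.resolve_left (by simp [c0, d0])))
  exact ⟨c * d⁻¹, by simp [c0, d0], by rw [smul_smul, inv_mul_cancel_right₀ d0]⟩

/-- the logarithmic pairing -/
def L (x a : V3) : ZMod 5 := lT (ft x) (ft a)

theorem L_ne {x a : V3} (h : hh x a ≠ 0) : L x a = lg (hh x a) := by rw [L, lT, ← h_eq, if_neg h]

theorem Iso.L_prop {a : V3} (ha : Iso a) (l : G16) : L (l • a) a = lg l := by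
  have := h_smul l 1 a a
  rw [one_smul, ha.2, mul_zero] at this
  rw [L, lT, ← h_eq, if_pos this, rt]
  congr 1
  split_ifs with h0 h1
  · exact mul_inv_cancel_right₀ (fun h2 => ha.1 (ft_inj (Prod.ext h0 (Prod.ext h1 h2)))) l
  · exact mul_inv_cancel_right₀ h1 l
  · exact mul_inv_cancel_right₀ h0 l

theorem L_act {x a : V3} (hx : Iso x) (ha : Iso a) (g : SU 3 G16 4) : L (av g x) (av g a) = L x a := by
  by_cases h : hh x a = 0
  · obtain ⟨l, -, rfl⟩ := hx.prop ha h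
    rw [av_smul, (ha.act g).L_prop, ha.L_prop]
  · have e : hh (av g x) (av g a) = hh x a := g.2 x a
    rw [L_ne h, L_ne (e ▸ h), e]

theorem L_smul {x a : V3} (hx : Iso x) (ha : Iso a) {c d : G16} (hc : c ≠ 0) (hd : d ≠ 0) :
    L (c • x) (d • a) = L x a + (lg c - lg d) := by
  by_cases h : hh x a = 0
  · obtain ⟨l, l0, rfl⟩ := hx.prop ha h
    have : Iso (d • a) := ⟨smul_ne_zero hd ha.1, by rw [h_smul, ha.2, mul_zero]⟩
    rw [show c • l • a = (l * (c * d⁻¹)) • d • a by rw [smul_smul, smul_smul]; congr 1; field_simp, this.L_prop,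
      ha.L_prop, lg_mul _ l0 _ (by simp [hc, hd]), lg_mul _ hc _ (inv_ne_zero hd), (lg_inv d).1, sub_eq_add_neg]
  · rw [L_ne h, L_ne (by simp [h_smul, hc, hd, h]), h_smul, lg_mul _ (by simp [hc, hd]) _ h,
      lg_mul _ hc _ (pow_ne_zero 4 hd), (lg_inv d).2]; ring

/-- the orbit sums -/
def S (x a : V3) : ZMod 5 := ∑ i ∈ Finset.range 13, L (av (u0 ^ i) x) a

theorem S_eq (x a : V3) : S x a = sT (ft x) (ft a) := by
  rw [sT, chk3.1, List.map_map]
  exact Finset.sum_congr rfl fun i hi => by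
    rw [L, av, u0_pow (Finset.mem_range.1 hi), ft_mk]; rfl

theorem S_split {x y a b : V3} (hx : Iso x) (hy : Iso y) (ha : Iso a) (hb : Iso b) :
    S x a - S y a - S x b + S y b = 0 := by
  have key : ∀ {x a : V3} {c d : G16}, Iso x → Iso a → c ≠ 0 → d ≠ 0 →
      S (c • x) (d • a) = sT (ft x) (ft a) + 13 • (lg c - lg d) := fun hx ha hc hd => by
    rw [← S_eq, S, S, Finset.sum_congr rfl fun i _ => by rw [av_smul, L_smul (hx.act _) ha hc hd],
      Finset.sum_add_distrib, Finset.sum_const, Finset.card_range]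
  obtain ⟨_, h1, x, ix, hx', rfl⟩ := hx.nz
  obtain ⟨_, h2, y, iy, hy', rfl⟩ := hy.nz
  obtain ⟨_, h3, a, ia, ha', rfl⟩ := ha.nz
  obtain ⟨_, h4, b, ib, hb', rfl⟩ := hb.nz
  rw [key ix ia h1 h3, key iy ia h2 h3, key ix ib h1 h4, key iy ib h2 h4]
  linear_combination (chk1' hx' ha').2 - (chk1' hy' ha').2 - (chk1' hx' hb').2 + (chk1' hy' hb').2

theorem card_su : Nat.card (SU 3 G16 4) = 62400 := by
  have := S0278.result card_eq 3 (by norm_num)
  simp [Finset.prod_range_succ] at this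
  omega

theorem exists_cusp : ∃ f ∈ cusp (SU 3 G16 4) (Fn (SU 3 G16 4) (ZMod 5)) (· = 13), f ≠ 0 := by
  obtain ⟨x, y, z, h1, h2, h3, h4⟩ : ∃ x y z, Iso x ∧ Iso y ∧ Iso z ∧ L x x - L y x - L x z + L y z ≠ 0 :=
    ⟨![0, 1, 1], ![0, 1, Fin.ofNat 16 8], ![1, 0, 1], ⟨by decide, by rw [h_eq]; decide +kernel⟩,
      ⟨by decide, by rw [h_eq]; decide +kernel⟩, ⟨by decide, by rw [h_eq]; decide +kernel⟩, by decide +kernel⟩
  refine ⟨fun g => L (av g x) x - L (av g y) x - L (av g x) z + L (av g y) z, mem_cusp_of_syl (by norm_num) (by rw [card_su]; norm_num) ord_u0 fun k => funext fun g => ?_, fun e => ?_⟩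
  · have key : ∀ {x a : V3}, Iso x → Iso a →
        ∑ i ∈ Finset.range 13, L (av (g * u0 ^ i * k) x) a = S (av k x) (av g⁻¹ a) := fun hx ha =>
      Finset.sum_congr rfl fun i _ => by
        rw [← L_act ((hx.act k).act _) (ha.act _) g, ← av_mul g g⁻¹, mul_inv_cancel, av_one, av_mul, av_mul]
    refine (Fn.nrm_apply _ _ _).trans (.trans ?_ (S_split (h1.act k) (h2.act k) (h1.act g⁻¹) (h3.act g⁻¹)))
    rw [ord_u0, ← key h1 h1, ← key h1 h3, ← key h2 h1, ← key h2 h3, ← Finset.sum_sub_distrib,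
      ← Finset.sum_sub_distrib, ← Finset.sum_add_distrib]
    rfl
  · exact h4 (by simpa only [av_one] using (congrFun e 1).trans (rfl : _ = (0 : ZMod 5)))

end G16

end Cfsg.Agent.H29
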